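import Groth.Agent.Lib.CubicForm.Residual
import Groth.Agent.Lib.CubicForm.Quintic
import Groth.Agent.Lib.CubicForm.PlaneLines
import Groth.Agent.Lib.CubicTangent.Basic

/-!
# Points whose tangent section is a union of lines
-/

set_option autoImplicit false
set_option linter.all false

universe u v

open Module GrothLib.CubicForm Matrix

namespace GrothLib.CubicTP12

variable {k : Type u} [Field k] [CharZero k] {V : Type v} [AddCommGroup V] [Module k V] (T : Tri k V)

/-- The restriction to `P` is a product of three linear forms. -/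
def Prod3 (P : Submodule k V) : Prop :=
  ∃ f g h : V →ₗ[k] k, ∀ x ∈ P, T.cube x = f x * g x * h x

/-- A smooth point with split tangent section. -/
def TP (b : V) : Prop :=
  T.cube b = 0 ∧ (∃ x, T b b x ≠ 0) ∧ Prod3 T (LinearMap.ker (T.lin b b))

/-- The cubic contains no plane. -/
def NoPlane : Prop := ∀ P : Submodule k V, finrank k ↥P = 3 → ¬ ∀ x ∈ P, T.cube x = 0

/-- The cubic is not a cone. -/
def NotCone : Prop := ∀ v : V, (∀ x, T v x x = 0) → v = 0

variable {T}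

theorem two_factor {f g : V →ₗ[k] k} {U : Submodule k V} (h : ∀ x ∈ U, f x * g x = 0) :
    (∀ x ∈ U, f x = 0) ∨ (∀ x ∈ U, g x = 0) := by
  by_contra hc
  push Not at hc
  obtain ⟨⟨x, hx, hfx⟩, y, hy, hgy⟩ := hc
  have hgx : g x = 0 := (mul_eq_zero.1 (h x hx)).resolve_left hfx
  have hfy : f y = 0 := (mul_eq_zero.1 (h y hy)).resolve_right hgy
  have := h _ (U.add_mem hx hy)
  rw [map_add, map_add, hgx, hfy, zero_add, add_zero] at this
  exact (mul_eq_zero.1 this).elim hfx hgy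

theorem three_factor {f g h : V →ₗ[k] k} {U : Submodule k V} (h0 : ∀ x ∈ U, f x * g x * h x = 0) :
    (∀ x ∈ U, f x = 0) ∨ (∀ x ∈ U, g x = 0) ∨ (∀ x ∈ U, h x = 0) := by
  by_cases hh : ∀ x ∈ U, h x = 0
  · exact Or.inr (Or.inr hh)
  push Not at hh
  obtain ⟨y, hy, hhy⟩ := hh
  have key : ∀ x ∈ U, h x ≠ 0 → f x * g x = 0 := fun x hx hhx => (mul_eq_zero.1 (h0 x hx)).resolve_right hhx
  refine (two_factor (f := f) (g := g) (U := U) fun x hx => ?_).imp_right Or.inl
  by_cases hhx : h x = 0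
  · have e1 := key _ (U.add_mem hx hy) (by simpa [hhx] using hhy)
    have e2 := key _ (U.sub_mem hx hy) (by simpa [hhx] using hhy)
    have e3 := key y hy hhy
    simp only [map_add, map_sub] at e1 e2
    have : 2 * (f x * g x) = 0 := by linear_combination e1 + e2 - 2 * e3
    simpa using this
  · exact key x hx hhx

variable [FiniteDimensional k V]

theorem finrank_ker (hV : finrank k V = 4) {φ : V →ₗ[k] k} (h : ∃ x, φ x ≠ 0) :
    finrank k ↥(LinearMap.ker φ) = 3 := by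
  obtain ⟨x, hx⟩ := h
  have hs : Function.Surjective φ := fun r => ⟨(r / φ x) • x, by simp [div_mul_cancel₀ r hx]⟩
  have := LinearMap.finrank_range_add_finrank_ker φ
  rw [LinearMap.range_eq_top.2 hs, finrank_top, finrank_self] at this
  omega

theorem finrank_lin_ker (hV : finrank k V = 4) {b : V} (h : ∃ x, T b b x ≠ 0) :
    finrank k ↥(LinearMap.ker (T.lin b b)) = 3 :=
  finrank_ker hV h

omit [CharZero k] [FiniteDimensional k V] in
theorem inj_emb {a b c : V} (ha : a ≠ 0) (hb : b ∉ Submodule.span k {a}) (hc : c ∉ Submodule.span k ({a, b} : Set V)) :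
    Function.Injective (emb (k := k) a b c) := by
  rw [← LinearMap.ker_eq_bot, Submodule.eq_bot_iff]
  intro x hx
  rw [LinearMap.mem_ker, emb_apply] at hx
  have h2 : x 2 = 0 := by
    by_contra h
    refine hc (Submodule.mem_span_pair.2 ⟨-((x 2)⁻¹ * x 0), -((x 2)⁻¹ * x 1), ?_⟩)
    have : x 2 • c = -(x 0 • a + x 1 • b) := eq_neg_of_add_eq_zero_right hx
    calc (-((x 2)⁻¹ * x 0)) • a + (-((x 2)⁻¹ * x 1)) • b = (x 2)⁻¹ • (-(x 0 • a + x 1 • b)) := by module
      _ = c := by rw [← this, inv_smul_smul₀ h]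
  rw [h2, zero_smul, add_zero] at hx
  have h1 : x 1 = 0 := by
    by_contra h
    refine hb (Submodule.mem_span_singleton.2 ⟨-((x 1)⁻¹ * x 0), ?_⟩)
    have : x 1 • b = -(x 0 • a) := eq_neg_of_add_eq_zero_right hx
    calc (-((x 1)⁻¹ * x 0)) • a = (x 1)⁻¹ • (-(x 0 • a)) := by module
      _ = b := by rw [← this, inv_smul_smul₀ h]
  rw [h1, zero_smul, add_zero] at hx
  have h0 : x 0 = 0 := (smul_eq_zero.1 hx).resolve_right ha
  funext i
  fin_cases i <;> assumption

omit [CharZero k] in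
theorem range_emb {a b c : V} (hinj : Function.Injective (emb (k := k) a b c)) {P : Submodule k V}
    (hP : finrank k ↥P = 3) (ha : a ∈ P) (hb : b ∈ P) (hc : c ∈ P) : LinearMap.range (emb (k := k) a b c) = P := by
  refine Submodule.eq_of_le_of_finrank_eq ?_ ?_
  · rintro _ ⟨x, rfl⟩
    exact P.add_mem (P.add_mem (P.smul_mem _ ha) (P.smul_mem _ hb)) (P.smul_mem _ hc)
  · rw [LinearMap.finrank_range_of_inj hinj, Module.finrank_fin_fun, hP]

omit [CharZero k] [FiniteDimensional k V] in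
theorem prod3_of_coord {a b c : V} (hinj : Function.Injective (emb (k := k) a b c))
    {f g h : (Fin 3 → k) →ₗ[k] k} (H : ∀ x, T.cube (emb a b c x) = f x * g x * h x) :
    Prod3 T (LinearMap.range (emb (k := k) a b c)) := by
  obtain ⟨l, hl⟩ := LinearMap.exists_leftInverse_of_injective _ (LinearMap.ker_eq_bot.2 hinj)
  refine ⟨f ∘ₗ l, g ∘ₗ l, h ∘ₗ l, ?_⟩
  rintro _ ⟨x, rfl⟩
  have : l (emb a b c x) = x := LinearMap.congr_fun hl x
  simp [this, H]

omit [CharZero k] [FiniteDimensional k V] in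
theorem cube_emb (a b c : V) (x : Fin 3 → k) :
    T.cube (emb a b c x) = x 0 ^ 3 * T a a a + x 1 ^ 3 * T b b b + x 2 ^ 3 * T c c c +
      3 * x 0 ^ 2 * x 1 * T a a b + 3 * x 0 * x 1 ^ 2 * T a b b + 3 * x 0 ^ 2 * x 2 * T a a c +
      3 * x 0 * x 2 ^ 2 * T a c c + 3 * x 1 ^ 2 * x 2 * T b b c + 3 * x 1 * x 2 ^ 2 * T b c c +
      6 * x 0 * x 1 * x 2 * T a b c := by
  simp [Tri.cube, emb_apply, T.symm₁ b a a, T.symm₁ b a b, T.symm₂ a b a, T.symm₂ b b a,
    T.symm₁ c a a, T.symm₁ c a c, T.symm₂ a c a, T.symm₂ c c a,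
    T.symm₁ c b b, T.symm₁ c b c, T.symm₂ b c b, T.symm₂ c c b,
    T.symm₁ b a c, T.symm₂ a c b, T.symm₁ c a b, T.symm₂ b c a, T.symm₁ c b a]
  ring

omit [CharZero k] [FiniteDimensional k V] in
/-- A plane in the cubic. -/
theorem plane_false (hNP : NoPlane T) {a b c : V} (hinj : Function.Injective (emb (k := k) a b c))
    (H : ∀ x, T.cube (emb (k := k) a b c x) = 0) : False := by
  refine hNP (LinearMap.range (emb (k := k) a b c)) ?_ ?_
  · rw [LinearMap.finrank_range_of_inj hinj, Module.finrank_fin_fun]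
  · rintro _ ⟨x, rfl⟩
    exact H x

variable [IsAlgClosed k]

/-- A tangent plane containing a line not through the point gives a split section. -/
theorem prod3_of_line_not_mem {a : V} {P U : Submodule k V} (hP : finrank k ↥P = 3) (haP : a ∈ P)
    (hga : ∀ x ∈ P, T a a x = 0) (hU : T.IsLine U) (hUP : U ≤ P) (haU : a ∉ U) : Prod3 T P := by
  obtain ⟨u, hu, hu0⟩ := exists_mem_notMem_span_singleton (U := U) (by rw [hU.1]) (0 : V)
  have hu' : u ≠ 0 := fun h => hu0 (by rw [h]; exact zero_mem _)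
  obtain ⟨v, hv, hvu⟩ := exists_mem_notMem_span_singleton (U := U) (by rw [hU.1]) u
  have hUeq := eq_span_pair hU.1 hu hv hu' hvu
  have hinj := inj_emb (c := a) hu' hvu (hUeq ▸ haU)
  rw [← range_emb hinj hP (hUP hu) (hUP hv) haP]
  obtain ⟨p, q, r, s, hf⟩ := CubicTangent.exists_quad_factor (T u u a) (2 * T u v a) (T v v a)
  refine prod3_of_coord hinj (f := (3 : k) • LinearMap.proj 2) (g := p • LinearMap.proj 0 + q • LinearMap.proj 1)
    (h := r • LinearMap.proj 0 + s • LinearMap.proj 1) fun x => ?_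
  have hz := fun x y z hx hy hz => T.eq_zero_of_cube_eq_zero U hU.2 (a := x) (b := y) (c := z) hx hy hz
  rw [cube_emb, hz u u u hu hu hu, hz v v v hv hv hv, hz u u v hu hu hv, hz u v v hu hv hv,
    show T a a a = 0 from hga a haP, show T u a a = 0 from (T.symm₁₃ u a a).trans (hga u (hUP hu)),
    show T v a a = 0 from (T.symm₁₃ v a a).trans (hga v (hUP hv))]
  simp only [LinearMap.smul_apply, LinearMap.add_apply, LinearMap.proj_apply, smul_eq_mul]
  linear_combination 3 * x 2 * hf (x 0) (x 1)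

/-- A tangent plane containing two lines gives a split section. -/
theorem prod3_of_two_lines {a : V} {P U U' : Submodule k V} (ha : a ≠ 0) (hP : finrank k ↥P = 3) (haP : a ∈ P)
    (hga : ∀ x ∈ P, T a a x = 0) (hU : T.IsLine U) (hU' : T.IsLine U') (hne : U ≠ U') (hUP : U ≤ P)
    (hU'P : U' ≤ P) : Prod3 T P := by
  by_cases haU : a ∈ U
  swap
  · exact prod3_of_line_not_mem hP haP hga hU hUP haU
  by_cases haU' : a ∈ U'
  swap
  · exact prod3_of_line_not_mem hP haP hga hU' hU'P haU'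
  obtain ⟨u, hu, hua⟩ := exists_mem_notMem_span_singleton (U := U) (by rw [hU.1]) a
  obtain ⟨v, hv, hva⟩ := exists_mem_notMem_span_singleton (U := U') (by rw [hU'.1]) a
  have hUeq := eq_span_pair hU.1 haU hu ha hua
  have hU'eq := eq_span_pair hU'.1 haU' hv ha hva
  have hinj := inj_emb (c := v) ha hua fun h => hne (by
    rw [← hUeq] at h
    exact (eq_span_pair hU.1 haU h ha hva).trans hU'eq.symm)
  rw [← range_emb hinj hP haP (hUP hu) (hU'P hv)]
  refine prod3_of_coord hinj (f := LinearMap.proj 1) (g := LinearMap.proj 2)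
    (h := (3 * T u u v) • LinearMap.proj 1 + (3 * T u v v) • LinearMap.proj 2 + (6 * T a u v) • LinearMap.proj 0)
    fun x => ?_
  have hz := fun x y z hx hy hz => T.eq_zero_of_cube_eq_zero U hU.2 (a := x) (b := y) (c := z) hx hy hz
  have hz' := fun x y z hx hy hz => T.eq_zero_of_cube_eq_zero U' hU'.2 (a := x) (b := y) (c := z) hx hy hz
  rw [cube_emb, hz a a a haU haU haU, hz u u u hu hu hu, hz a a u haU haU hu, hz a u u haU hu hu,
    hz' v v v hv hv hv, hz' a a v haU' haU' hv, hz' a v v haU' hv hv]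
  simp only [LinearMap.smul_apply, LinearMap.add_apply, LinearMap.proj_apply, smul_eq_mul]
  ring

/-- The lines through a point with split tangent section. -/
theorem TP.lines (hV : finrank k V = 4) (hNP : NoPlane T) {b : V} (hb : TP T b) :
    (∃ U U' : Submodule k V, T.IsLine U ∧ T.IsLine U' ∧ U ≠ U' ∧ b ∈ U ∧ b ∈ U') ∨
      ∃ U : Submodule k V, T.IsLine U ∧ b ∈ U ∧ U ≤ LinearMap.ker (T.lin b b) ∧
        ∀ u ∈ U, ∀ h ∈ LinearMap.ker (T.lin b b), T u u h = 0 := by
  obtain ⟨hb0, hg, f₁, f₂, f₃, hf⟩ := hb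
  set P := LinearMap.ker (T.lin b b) with hPdef
  have hP : finrank k ↥P = 3 := finrank_lin_ker hV hg
  have hbP : b ∈ P := hb0
  have hP' : ∀ x, x ∈ P ↔ T b b x = 0 := fun x => Iff.rfl
  -- two of the forms vanish at the point
  have hfb : f₁ b * f₂ b * f₃ b = 0 := by rw [← hf b hbP, hb0]
  have hder : ∀ x ∈ P, f₁ x * (f₂ b * f₃ b) + f₂ x * (f₁ b * f₃ b) + f₃ x * (f₁ b * f₂ b) = 0 := by
    intro x hx
    have e1 := hf _ (P.add_mem hbP (P.smul_mem (1 : k) hx))
    have e2 := hf _ (P.add_mem hbP (P.smul_mem (-1 : k) hx))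
    have e3 := hf x hx
    have hx' : T b b x = 0 := hx
    rw [T.cube_add_smul, hb0, hx'] at e1 e2
    simp only [map_add, map_smul, smul_eq_mul] at e1 e2
    linear_combination -(1 / 2 : k) * e1 + (1 / 2 : k) * e2 + e3
  have key : ∀ g₁ g₂ g₃ : V →ₗ[k] k, (∀ x ∈ P, T.cube x = g₁ x * g₂ x * g₃ x) → g₁ b = 0 →
      (∀ x ∈ P, g₁ x * (g₂ b * g₃ b) = 0) →
      (∃ U U' : Submodule k V, T.IsLine U ∧ T.IsLine U' ∧ U ≠ U' ∧ b ∈ U ∧ b ∈ U') ∨
      ∃ U : Submodule k V, T.IsLine U ∧ b ∈ U ∧ U ≤ P ∧ ∀ u ∈ U, ∀ h ∈ P, T u u h = 0 := by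
    intro g₁ g₂ g₃ hg' h1 h23
    have hne : ∀ g : V →ₗ[k] k, (∀ x ∈ P, g x = 0 → T.cube x = 0) → ∃ x ∈ P, g x ≠ 0 := by
      intro g hgz
      by_contra! hall
      exact hNP P hP fun x hx => hgz x hx (hall x hx)
    obtain ⟨x1, hx1, hx1'⟩ := hne g₁ fun x hx h => by rw [hg' x hx, h]; ring
    have mk : ∀ g : V →ₗ[k] k, (∀ x ∈ P, g x = 0 → T.cube x = 0) → g b = 0 →
        T.IsLine (P ⊓ LinearMap.ker g) ∧ b ∈ P ⊓ LinearMap.ker g := by
      intro g hgz hgb
      obtain ⟨x, hx, hx'⟩ := hne g hgz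
      refine ⟨⟨?_, fun u hu => hgz u hu.1 hu.2⟩, hbP, hgb⟩
      let r := g.domRestrict P
      have hs : Function.Surjective r := fun t => ⟨(t / g x) • ⟨x, hx⟩, by
        show g ((t / g x) • x) = t
        rw [map_smul, smul_eq_mul, div_mul_cancel₀ t hx']⟩
      have hk := LinearMap.finrank_range_add_finrank_ker r
      rw [LinearMap.range_eq_top.2 hs, finrank_top, finrank_self, hP] at hk
      have heq : (LinearMap.ker r).map P.subtype = P ⊓ LinearMap.ker g := by
        ext z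
        simp [r, LinearMap.domRestrict_apply, Submodule.mem_inf, and_comm]
      rw [← heq, Submodule.finrank_map_subtype_eq]
      omega
    have h23' : g₂ b * g₃ b = 0 := (mul_eq_zero.1 (h23 x1 hx1)).resolve_left hx1'
    have two : ∀ g g' : V →ₗ[k] k, g b = 0 → (∀ x ∈ P, T.cube x = g₁ x * g x * g' x) →
        (∃ U U' : Submodule k V, T.IsLine U ∧ T.IsLine U' ∧ U ≠ U' ∧ b ∈ U ∧ b ∈ U') ∨
        ∃ U : Submodule k V, T.IsLine U ∧ b ∈ U ∧ U ≤ P ∧ ∀ u ∈ U, ∀ h ∈ P, T u u h = 0 := by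
      intro g g' hgb hgg
      obtain ⟨hl1, hb1⟩ := mk g₁ (fun x hx h => by rw [hgg x hx, h]; ring) h1
      obtain ⟨hl2, hb2⟩ := mk g (fun x hx h => by rw [hgg x hx, h]; ring) hgb
      by_cases heq : P ⊓ LinearMap.ker g₁ = P ⊓ LinearMap.ker g
      · refine Or.inr ⟨_, hl1, hb1, inf_le_left, fun u hu h hh => ?_⟩
        have hgu : g u = 0 := (heq ▸ hu : u ∈ P ⊓ LinearMap.ker g).2
        have hu1 : g₁ u = 0 := hu.2
        have e1 := hgg _ (P.add_mem hu.1 (P.smul_mem (1 : k) hh))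
        have e2 := hgg _ (P.add_mem hu.1 (P.smul_mem (-1 : k) hh))
        have e3 := hgg h hh
        rw [T.cube_add_smul, hl1.2 u hu] at e1 e2
        simp only [map_add, map_smul, smul_eq_mul, hgu, hu1] at e1 e2
        linear_combination (1 / 6 : k) * e1 - (1 / 6 : k) * e2 - (1 / 3 : k) * e3
      · exact Or.inl ⟨_, _, hl1, hl2, heq, hb1, hb2⟩
    rcases mul_eq_zero.1 h23' with h2 | h3
    · exact two g₂ g₃ h2 hg'
    · exact two g₃ g₂ h3 fun x hx => by rw [hg' x hx]; ring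
  rcases mul_eq_zero.1 hfb with h12 | h3
  · rcases mul_eq_zero.1 h12 with h1 | h2
    · exact key f₁ f₂ f₃ hf h1 fun x hx => by simpa [h1] using hder x hx
    · exact key f₂ f₁ f₃ (fun x hx => by rw [hf x hx]; ring) h2 fun x hx => by simpa [h2] using hder x hx
  · exact key f₃ f₁ f₂ (fun x hx => by rw [hf x hx]; ring) h3 fun x hx => by simpa [h3] using hder x hx

omit [CharZero k] [FiniteDimensional k V] in
/-- A singular symmetric quadratic form in three variables splits. -/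
theorem split_of_det {M : Matrix (Fin 3) (Fin 3) k} (hM : ∀ x y, x ⬝ᵥ M.mulVec y = y ⬝ᵥ M.mulVec x)
    (h : M.det = 0) : ∃ f g : (Fin 3 → k) →ₗ[k] k, ∀ x, x ⬝ᵥ M.mulVec x = f x * g x := by
  obtain ⟨v, hv0, hv⟩ := Matrix.exists_mulVec_eq_zero_iff.2 h
  obtain ⟨j, hj⟩ : ∃ j, v j ≠ 0 := by
    by_contra! hh; exact hv0 (funext hh)
  let π : (Fin 3 → k) →ₗ[k] (Fin 3 → k) :=
    LinearMap.id - LinearMap.smulRight ((v j)⁻¹ • LinearMap.proj j) v
  have hπj : ∀ x, π x j = 0 := fun x => by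
    simp [π]
    field_simp
    ring
  have hπq : ∀ x, x ⬝ᵥ M.mulVec x = π x ⬝ᵥ M.mulVec (π x) := fun x => by
    have hπx : π x = x - ((v j)⁻¹ * x j) • v := by simp [π]
    rw [hπx, Matrix.mulVec_sub, Matrix.mulVec_smul, hv, smul_zero, sub_zero, sub_dotProduct, smul_dotProduct,
      hM v x, hv, dotProduct_zero, smul_zero, sub_zero]
  obtain ⟨p, q, r, s, hf⟩ := CubicTangent.exists_quad_factor (M (j + 1) (j + 1)) (M (j + 1) (j + 2) + M (j + 2) (j + 1))
    (M (j + 2) (j + 2))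
  refine ⟨(p • LinearMap.proj (j + 1) + q • LinearMap.proj (j + 2)) ∘ₗ π,
    (r • LinearMap.proj (j + 1) + s • LinearMap.proj (j + 2)) ∘ₗ π, fun x => ?_⟩
  rw [hπq]
  simp only [LinearMap.comp_apply, LinearMap.add_apply, LinearMap.smul_apply, LinearMap.proj_apply, smul_eq_mul]
  rw [← hf]
  have h0 := hπj x
  generalize π x = y at h0 ⊢
  fin_cases j <;> simp [dotProduct, Matrix.mulVec, Fin.sum_univ_three] at h0 ⊢ <;> rw [h0] <;> ring

omit [IsAlgClosed k] [FiniteDimensional k V] in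
/-- A split quadratic form in three variables is singular. -/
theorem det_of_split {M : Matrix (Fin 3) (Fin 3) k} (hM : ∀ x y, x ⬝ᵥ M.mulVec y = y ⬝ᵥ M.mulVec x)
    {f g : (Fin 3 → k) →ₗ[k] k} (h : ∀ x, x ⬝ᵥ M.mulVec x = f x * g x) : M.det = 0 := by
  obtain ⟨v, hv, hv0⟩ := (Submodule.ne_bot_iff _).1 (show LinearMap.ker (f.prod g) ≠ ⊥ from
    LinearMap.ker_ne_bot_of_finrank_lt (by simp))
  simp only [LinearMap.mem_ker, LinearMap.prod_apply, Function.prod_apply, Prod.mk_eq_zero] at hv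
  refine Matrix.exists_mulVec_eq_zero_iff.1 ⟨v, hv0, dotProduct_eq_zero _ fun y => ?_⟩
  rw [dotProduct_comm]
  have e1 := h (y + v)
  have e2 := h (y - v)
  simp only [Matrix.mulVec_add, Matrix.mulVec_sub, dotProduct_add, add_dotProduct, dotProduct_sub, sub_dotProduct,
    map_add, map_sub, hv.1, hv.2, hM v y] at e1 e2
  linear_combination (1 / 4 : k) * e1 - (1 / 4 : k) * e2

omit [FiniteDimensional k V] in
theorem prod3_of_disc {a b w : V} (hL : Tri.Line T a b) (hinj : Function.Injective (emb (k := k) a b w))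
    (h : T.disc a b w = 0) : Prod3 T (LinearMap.range (emb (k := k) a b w)) := by
  obtain ⟨f, g, hfg⟩ := split_of_det (T.qmat_symm a b w) h
  refine prod3_of_coord hinj (f := (3 : k) • LinearMap.proj 2) (g := f) (h := g) fun x => ?_
  rw [hL.cube_emb, hfg]
  simp
  ring

omit [IsAlgClosed k] [FiniteDimensional k V] in
theorem disc_of_prod3 {a b w : V} (hL : Tri.Line T a b) {P : Submodule k V} (ha : a ∈ P) (hb : b ∈ P) (hw : w ∈ P)
    (h : Prod3 T P) : T.disc a b w = 0 := by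
  obtain ⟨f₁, f₂, f₃, hf⟩ := h
  let e := emb (k := k) a b w
  have he : ∀ x, 3 * x 2 * (x ⬝ᵥ (T.qmat a b w).mulVec x) = f₁ (e x) * f₂ (e x) * f₃ (e x) := fun x => by
    rw [← hL.cube_emb]
    exact hf _ (P.add_mem (P.add_mem (P.smul_mem _ ha) (P.smul_mem _ hb)) (P.smul_mem _ hw))
  have key : ∀ g₁ g₂ g₃ : (Fin 3 → k) →ₗ[k] k,
      (∀ x, 3 * x 2 * (x ⬝ᵥ (T.qmat a b w).mulVec x) = g₁ x * g₂ x * g₃ x) →
      (∀ x ∈ LinearMap.ker (LinearMap.proj 2 : (Fin 3 → k) →ₗ[k] k), g₁ x = 0) → T.disc a b w = 0 := by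
    intro g₁ g₂ g₃ hg hz
    refine det_of_split (T.qmat_symm a b w) (f := (g₁ (Pi.single 2 1) / 3) • g₂) (g := g₃) fun x => ?_
    have hg1 : ∀ x, g₁ x = x 2 * g₁ (Pi.single 2 1) := fun x => by
      have := hz (x - x 2 • Pi.single 2 1) (by simp)
      rw [map_sub, map_smul, sub_eq_zero] at this
      exact this
    let G : (Fin 3 → k) → k := fun x => x ⬝ᵥ (T.qmat a b w).mulVec x - (g₁ (Pi.single 2 1) / 3) * g₂ x * g₃ x
    have hG : ∀ x, x 2 ≠ 0 → G x = 0 := fun x hx => by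
      have := hg x
      rw [hg1] at this
      have h3 : 3 * x 2 * G x = 0 := by simp only [G]; linear_combination this
      simpa [hx] using h3
    suffices h0 : G x = 0 by
      simp only [LinearMap.smul_apply, smul_eq_mul]
      exact sub_eq_zero.1 h0
    by_cases hx : x 2 = 0
    · have e1 := hG (x + (1 : k) • Pi.single 2 1) (by simp [hx])
      have e2 := hG (x + (-1 : k) • Pi.single 2 1) (by simp [hx])
      have e3 := hG (x + (2 : k) • Pi.single 2 1) (by simp [hx])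
      simp only [G, Matrix.mulVec_add, Matrix.mulVec_smul, dotProduct_add, add_dotProduct, dotProduct_smul,
        smul_dotProduct, map_add, map_smul, smul_eq_mul] at e1 e2 e3 ⊢
      linear_combination e1 + (1 / 3 : k) * e2 - (1 / 3 : k) * e3
    · exact hG x hx
  rcases three_factor (f := f₁ ∘ₗ e) (g := f₂ ∘ₗ e) (h := f₃ ∘ₗ e)
    (U := LinearMap.ker (LinearMap.proj 2 : (Fin 3 → k) →ₗ[k] k)) (fun x hx => by
      have := he x
      simp only [LinearMap.mem_ker, LinearMap.proj_apply] at hx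
      rw [hx, mul_zero, zero_mul] at this
      exact this.symm) with h1 | h2 | h3
  · exact key _ (f₂ ∘ₗ e) (f₃ ∘ₗ e) he h1
  · exact key _ (f₁ ∘ₗ e) (f₃ ∘ₗ e) (fun x => (he x).trans (by simp only [LinearMap.comp_apply]; ring)) h2
  · exact key _ (f₁ ∘ₗ e) (f₂ ∘ₗ e) (fun x => (he x).trans (by simp only [LinearMap.comp_apply]; ring)) h3

end GrothLib.CubicTP12
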