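import Groth.Agent.Lib.CubicTP12.OnLine
import Groth.Agent.S16347

/-!
# From polynomials to trilinear forms
-/

set_option autoImplicit false
set_option linter.all false

universe u

open Module MvPolynomial GrothLib.CubicForm

namespace GrothLib.CubicTP12

variable {K : Type u} [Field K]

/-- The linear functional as a polynomial. -/
noncomputable def lf (φ : (Fin 4 → K) →ₗ[K] K) : MvPolynomial (Fin 4) K :=
  ∑ i, C (φ (Pi.single i 1)) * X i

theorem eval_lf (φ : (Fin 4 → K) →ₗ[K] K) (x : Fin 4 → K) : eval x (lf φ) = φ x := by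
  conv_rhs => rw [pi_eq_sum_univ' x]
  simp [lf, mul_comm]

theorem isHomogeneous_lf (φ : (Fin 4 → K) →ₗ[K] K) : (lf φ).IsHomogeneous 1 :=
  MvPolynomial.IsHomogeneous.sum _ _ _ fun i _ => MvPolynomial.isHomogeneous_C_mul_X _ _

theorem exists_functional {L : MvPolynomial (Fin 4) K} (hL : L.IsHomogeneous 1) :
    ∃ φ : (Fin 4 → K) →ₗ[K] K, ∀ x, eval x L = φ x := by
  refine ⟨∑ i, eval 0 (pderiv i L) • LinearMap.proj i, fun x => ?_⟩
  have h := eval_euler hL x
  rw [Nat.cast_one, one_mul] at h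
  rw [← h]
  simp [LinearMap.sum_apply]
  exact Finset.sum_congr rfl fun i _ => by
    rw [eval_eq_eval_zero_of_isHomogeneous_zero hL.pderiv x]
    simp [mul_comm]

variable [CharZero K] {F : MvPolynomial (Fin 4) K} (hF : F.IsHomogeneous 3)

include hF

theorem noPlane_of_irreducible (hirr : Irreducible F) : NoPlane (ofPoly F) := by
  intro P hP hzero
  obtain ⟨φ, hφ, hle⟩ := Submodule.exists_le_ker_of_lt_top P (lt_top_iff_ne_top.2 fun h => by
    rw [h, finrank_top, Module.finrank_fin_fun] at hP; omega)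
  obtain ⟨j, hj⟩ : ∃ j, φ (Pi.single j 1) ≠ 0 := by
    by_contra! hall
    refine hφ (LinearMap.ext fun x => ?_)
    rw [pi_eq_sum_univ' x, map_sum]
    simp [hall]
  have hker : P = LinearMap.ker φ := by
    refine Submodule.eq_of_le_of_finrank_eq hle (hP.trans ?_)
    exact (finrank_ker (by rw [Module.finrank_fin_fun]) ⟨_, hj⟩).symm
  have hmem := GrothLib.CubicTangent.mem_span_of_eval_eq_zero (fun i => φ (Pi.single i 1)) hj F fun x hx => by
    have hxP : x ∈ P := by
      rw [hker, LinearMap.mem_ker, ← eval_lf φ x]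
      exact hx
    exact (ofPoly_cube_eq_zero_iff hF x).1 (hzero x hxP)
  obtain ⟨G, hG⟩ := Ideal.mem_span_singleton'.mp hmem
  rcases hirr.isUnit_or_isUnit hG.symm with hu | hu
  · have hdeg : G.totalDegree = 0 := by
      obtain ⟨Hi, hHi⟩ := isUnit_iff_exists_inv.mp hu
      have h1 : G ≠ 0 := left_ne_zero_of_mul_eq_one hHi
      have h2 : Hi ≠ 0 := right_ne_zero_of_mul_eq_one hHi
      have h3 := MvPolynomial.totalDegree_mul_of_isDomain h1 h2
      rw [hHi, MvPolynomial.totalDegree_one] at h3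
      omega
    have h1 : F.IsHomogeneous 1 := by
      rw [← hG, MvPolynomial.totalDegree_eq_zero_iff_eq_C.mp hdeg]
      simpa [lf] using (MvPolynomial.isHomogeneous_C (Fin 4) (MvPolynomial.coeff 0 G)).mul (isHomogeneous_lf φ)
    exact absurd (h1.inj_right hF hirr.ne_zero) (by norm_num)
  · have := hu.map (MvPolynomial.eval (0 : Fin 4 → K))
    rw [show (∑ i, C (φ (Pi.single i 1)) * X i : MvPolynomial (Fin 4) K) = lf φ from rfl, eval_lf, map_zero] at this
    exact not_isUnit_zero this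

theorem notCone_of_pderiv
    (hcone : ¬ ∃ v : Fin 4 → K, v ≠ 0 ∧ ∑ i : Fin 4, v i • MvPolynomial.pderiv i F = 0) :
    NotCone (ofPoly F) := by
  intro v hv
  by_contra hne
  refine hcone ⟨v, hne, MvPolynomial.funext fun x => ?_⟩
  have h : ofPoly F x x v = 0 := ((ofPoly F).symm₁₃ x x v).trans (hv x)
  rw [ofPoly_grad hF] at h
  simpa using (mul_eq_zero.mp h).resolve_left two_ne_zero

/-- The linear form of the tangent plane. -/
theorem lin_eq (b x : Fin 4 → K) :
    ofPoly F b b x = 2 * eval x (∑ i : Fin 4, C (eval b (pderiv i F)) * X i) := by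
  rw [ofPoly_grad hF]
  congr 1
  simp [mul_comm]

/-- The polynomial formulation of a split tangent section. -/
theorem TP_iff (b : Fin 4 → K) :
    TP (ofPoly F) b ↔ (b ≠ 0 ∧ eval b F = 0 ∧ (∃ i : Fin 4, eval b (pderiv i F) ≠ 0) ∧
      ∃ L₁ L₂ L₃ : MvPolynomial (Fin 4) K, L₁.IsHomogeneous 1 ∧ L₂.IsHomogeneous 1 ∧ L₃.IsHomogeneous 1 ∧
        F - L₁ * L₂ * L₃ ∈ Ideal.span {∑ i : Fin 4, C (eval b (pderiv i F)) * X i}) := by
  constructor
  · rintro ⟨hb, hg, f, g, h, hfgh⟩
    have hgi : ∃ i : Fin 4, eval b (pderiv i F) ≠ 0 := by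
      by_contra! hall
      obtain ⟨x, hx⟩ := hg
      exact hx ((ofPoly_grad_eq_zero_iff hF b).2 hall x)
    refine ⟨fun h0 => ?_, (ofPoly_cube_eq_zero_iff hF b).1 hb, hgi, lf ((6 : K)⁻¹ • f), lf g, lf h,
      isHomogeneous_lf _, isHomogeneous_lf _, isHomogeneous_lf _, ?_⟩
    · obtain ⟨x, hx⟩ := hg
      exact hx (by rw [h0, Tri.zero₁])
    · obtain ⟨i, hi⟩ := hgi
      refine GrothLib.CubicTangent.mem_span_of_eval_eq_zero (fun i => eval b (pderiv i F)) hi _ fun x hx => ?_
      have hxP : x ∈ LinearMap.ker ((ofPoly F).lin b b) := by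
        show ofPoly F b b x = 0
        rw [lin_eq hF, hx, mul_zero]
      have h6 := hfgh x hxP
      rw [ofPoly_cube hF] at h6
      simp only [map_sub, map_mul, eval_lf, LinearMap.smul_apply, smul_eq_mul]
      linear_combination (1 / 6 : K) * h6
  · rintro ⟨-, hb, ⟨i, hi⟩, L₁, L₂, L₃, h1, h2, h3, hmem⟩
    refine ⟨(ofPoly_cube_eq_zero_iff hF b).2 hb, ?_, ?_⟩
    · by_contra! hall
      exact hi ((ofPoly_grad_eq_zero_iff hF b).1 hall i)
    · obtain ⟨φ₁, e1⟩ := exists_functional h1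
      obtain ⟨φ₂, e2⟩ := exists_functional h2
      obtain ⟨φ₃, e3⟩ := exists_functional h3
      refine ⟨(6 : K) • φ₁, φ₂, φ₃, fun x hx => ?_⟩
      have hx' : eval x (∑ i : Fin 4, C (eval b (pderiv i F)) * X i) = 0 := by
        have : ofPoly F b b x = 0 := hx
        rw [lin_eq hF] at this
        exact (mul_eq_zero.1 this).resolve_left two_ne_zero
      obtain ⟨G, hG⟩ := Ideal.mem_span_singleton'.1 hmem
      have h0 := congrArg (eval x) hG
      rw [map_mul, hx', mul_zero, map_sub, map_mul, map_mul, e1, e2, e3] at h0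
      rw [ofPoly_cube hF, LinearMap.smul_apply, smul_eq_mul]
      linear_combination -6 * h0

theorem through_finite [IsAlgClosed K] (hirr : Irreducible F)
    (hcone : ¬ ∃ v : Fin 4 → K, v ≠ 0 ∧ ∑ i : Fin 4, v i • MvPolynomial.pderiv i F = 0) :
    ∀ p : Fin 4 → K, p ≠ 0 → (∀ x, ofPoly F p p x = 0) →
      {U : Submodule K (Fin 4 → K) | p ∈ U ∧ (ofPoly F).IsLine U}.Finite := by
  intro p hp hsing
  have h := Groth.Agent.S16347.result K F hF hirr hcone p hp
    ((ofPoly_cube_eq_zero_iff hF p).1 (hsing p)) ((ofPoly_grad_eq_zero_iff hF p).1 hsing)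
  refine (Set.finite_of_encard_le_coe (k := 6) h).subset ?_
  rintro U ⟨hpU, hU, hcube⟩
  exact ⟨hpU, hU, (ofPoly_line_iff hF U).1 hcube⟩

end GrothLib.CubicTP12
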