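import Groth.Agent.Lib.CubicForm.Basic
import Mathlib.LinearAlgebra.Matrix.Determinant.Basic
import Mathlib.LinearAlgebra.Matrix.Notation
import Mathlib.LinearAlgebra.Matrix.ToLinearEquiv
import Mathlib.Algebra.BigOperators.Fin

/-!
# A cubic through five points in general position is a Pfaffian
-/

set_option autoImplicit false
set_option linter.all false
set_option maxHeartbeats 4000000

universe u

namespace GrothLib.CubicTP12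

open GrothLib.CubicForm

variable {k : Type u} [Field k]

/-- The alternating matrix attached to the five coordinate points. -/
def skewMat (x : Fin 4 → k) (w : Fin 5 → k) : Matrix (Fin 6) (Fin 6) k :=
  !![0, x 1, x 3, 0, -x 1, w 0;
     -x 1, 0, 0, -x 2, x 1, w 1;
     -x 3, 0, 0, -x 0, x 0, w 2;
     0, x 2, x 0, 0, -x 0, w 3;
     x 1, -x 1, -x 0, x 0, 0, w 4;
     -w 0, -w 1, -w 2, -w 3, -w 4, 0]

def skewPf (x : Fin 4 → k) (w : Fin 5 → k) : k :=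
  w 0 * ((x 0 * x 2) + -(x 0 * x 1)) + w 1 * ((x 0 * x 3) + -(x 0 * x 1)) + w 2 * (-(x 0 * x 1) + (x 1 * x 2)) + w 3 * (-(x 0 * x 1) + (x 1 * x 3)) + w 4 * (-(x 0 * x 1) + (x 2 * x 3))

theorem det_skewMat (x : Fin 4 → k) (w : Fin 5 → k) : (skewMat x w).det = skewPf x w ^ 2 := by
  simp [skewMat, skewPf, Matrix.det_succ_row_zero, Fin.sum_univ_succ, Fin.succAbove]
  ring

theorem transpose_skewMat (x : Fin 4 → k) (w : Fin 5 → k) (i j : Fin 6) :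
    skewMat x w i j = -skewMat x w j i := by
  fin_cases i <;> fin_cases j <;> simp [skewMat]

theorem diag_skewMat (x : Fin 4 → k) (w : Fin 5 → k) (i : Fin 6) : skewMat x w i i = 0 := by
  fin_cases i <;> simp [skewMat]

variable {V : Type u} [AddCommGroup V] [Module k V] (T : Tri k V)

/-- The last column. -/
def wcol (e : Fin 4 → V) (x : Fin 4 → k) : Fin 5 → k :=
  ![(T (e 0) (e 0) (e 2) * (3 * x 0) + T (e 0) (e 1) (e 1) * (-3 * x 1) + T (e 0) (e 1) (e 3) * (-6 * x 1) + T (e 0) (e 2) (e 2) * (3 * x 2) + T (e 0) (e 2) (e 3) * (-6 * x 1 + 6 * x 3) + T (e 0) (e 3) (e 3) * (-3 * x 1) + T (e 1) (e 1) (e 2) * (-3 * x 1) + T (e 1) (e 1) (e 3) * (-3 * x 1) + T (e 1) (e 2) (e 3) * (-6 * x 1) + T (e 1) (e 3) (e 3) * (-3 * x 1) + T (e 2) (e 3) (e 3) * (-3 * x 1)),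
    (T (e 0) (e 0) (e 3) * (3 * x 0) + T (e 0) (e 1) (e 3) * (6 * x 1) + T (e 0) (e 2) (e 3) * (6 * x 1) + T (e 0) (e 3) (e 3) * (3 * x 1 + 3 * x 3) + T (e 1) (e 2) (e 3) * (6 * x 1) + T (e 1) (e 3) (e 3) * (3 * x 1) + T (e 2) (e 3) (e 3) * (3 * x 1)),
    (T (e 0) (e 0) (e 1) * (-3 * x 0) + T (e 0) (e 0) (e 2) * (-3 * x 0) + T (e 0) (e 0) (e 3) * (-3 * x 0) + T (e 1) (e 1) (e 2) * (3 * x 1) + T (e 1) (e 2) (e 2) * (3 * x 2) + T (e 1) (e 2) (e 3) * (6 * x 3)),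
    (T (e 1) (e 1) (e 3) * (3 * x 1) + T (e 1) (e 3) (e 3) * (3 * x 3)),
    (T (e 2) (e 2) (e 3) * (3 * x 2) + T (e 2) (e 3) (e 3) * (3 * x 3))]

theorem skewPf_wcol (e : Fin 4 → V) (h : ∀ i, T.cube (e i) = 0) (h1 : T.cube (e 0 + e 1 + e 2 + e 3) = 0)
    (x : Fin 4 → k) :
    skewPf x (wcol T e x) = T.cube (x 0 • e 0 + x 1 • e 1 + x 2 • e 2 + x 3 • e 3) := by
  have h010 : T (e 0) (e 1) (e 0) = T (e 0) (e 0) (e 1) := (T.symm₂ (e 0) (e 1) (e 0))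
  have h020 : T (e 0) (e 2) (e 0) = T (e 0) (e 0) (e 2) := (T.symm₂ (e 0) (e 2) (e 0))
  have h021 : T (e 0) (e 2) (e 1) = T (e 0) (e 1) (e 2) := (T.symm₂ (e 0) (e 2) (e 1))
  have h030 : T (e 0) (e 3) (e 0) = T (e 0) (e 0) (e 3) := (T.symm₂ (e 0) (e 3) (e 0))
  have h031 : T (e 0) (e 3) (e 1) = T (e 0) (e 1) (e 3) := (T.symm₂ (e 0) (e 3) (e 1))
  have h032 : T (e 0) (e 3) (e 2) = T (e 0) (e 2) (e 3) := (T.symm₂ (e 0) (e 3) (e 2))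
  have h100 : T (e 1) (e 0) (e 0) = T (e 0) (e 0) (e 1) := (T.symm₁ (e 1) (e 0) (e 0)).trans (T.symm₂ (e 0) (e 1) (e 0))
  have h101 : T (e 1) (e 0) (e 1) = T (e 0) (e 1) (e 1) := (T.symm₁ (e 1) (e 0) (e 1))
  have h102 : T (e 1) (e 0) (e 2) = T (e 0) (e 1) (e 2) := (T.symm₁ (e 1) (e 0) (e 2))
  have h103 : T (e 1) (e 0) (e 3) = T (e 0) (e 1) (e 3) := (T.symm₁ (e 1) (e 0) (e 3))
  have h110 : T (e 1) (e 1) (e 0) = T (e 0) (e 1) (e 1) := (T.symm₂ (e 1) (e 1) (e 0)).trans (T.symm₁ (e 1) (e 0) (e 1))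
  have h120 : T (e 1) (e 2) (e 0) = T (e 0) (e 1) (e 2) := (T.symm₂ (e 1) (e 2) (e 0)).trans (T.symm₁ (e 1) (e 0) (e 2))
  have h121 : T (e 1) (e 2) (e 1) = T (e 1) (e 1) (e 2) := (T.symm₂ (e 1) (e 2) (e 1))
  have h130 : T (e 1) (e 3) (e 0) = T (e 0) (e 1) (e 3) := (T.symm₂ (e 1) (e 3) (e 0)).trans (T.symm₁ (e 1) (e 0) (e 3))
  have h131 : T (e 1) (e 3) (e 1) = T (e 1) (e 1) (e 3) := (T.symm₂ (e 1) (e 3) (e 1))
  have h132 : T (e 1) (e 3) (e 2) = T (e 1) (e 2) (e 3) := (T.symm₂ (e 1) (e 3) (e 2))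
  have h200 : T (e 2) (e 0) (e 0) = T (e 0) (e 0) (e 2) := (T.symm₁ (e 2) (e 0) (e 0)).trans (T.symm₂ (e 0) (e 2) (e 0))
  have h201 : T (e 2) (e 0) (e 1) = T (e 0) (e 1) (e 2) := (T.symm₁ (e 2) (e 0) (e 1)).trans (T.symm₂ (e 0) (e 2) (e 1))
  have h202 : T (e 2) (e 0) (e 2) = T (e 0) (e 2) (e 2) := (T.symm₁ (e 2) (e 0) (e 2))
  have h203 : T (e 2) (e 0) (e 3) = T (e 0) (e 2) (e 3) := (T.symm₁ (e 2) (e 0) (e 3))
  have h210 : T (e 2) (e 1) (e 0) = T (e 0) (e 1) (e 2) := ((T.symm₁ (e 2) (e 1) (e 0)).trans (T.symm₂ (e 1) (e 2) (e 0))).trans (T.symm₁ (e 1) (e 0) (e 2))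
  have h211 : T (e 2) (e 1) (e 1) = T (e 1) (e 1) (e 2) := (T.symm₁ (e 2) (e 1) (e 1)).trans (T.symm₂ (e 1) (e 2) (e 1))
  have h212 : T (e 2) (e 1) (e 2) = T (e 1) (e 2) (e 2) := (T.symm₁ (e 2) (e 1) (e 2))
  have h213 : T (e 2) (e 1) (e 3) = T (e 1) (e 2) (e 3) := (T.symm₁ (e 2) (e 1) (e 3))
  have h220 : T (e 2) (e 2) (e 0) = T (e 0) (e 2) (e 2) := (T.symm₂ (e 2) (e 2) (e 0)).trans (T.symm₁ (e 2) (e 0) (e 2))
  have h221 : T (e 2) (e 2) (e 1) = T (e 1) (e 2) (e 2) := (T.symm₂ (e 2) (e 2) (e 1)).trans (T.symm₁ (e 2) (e 1) (e 2))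
  have h230 : T (e 2) (e 3) (e 0) = T (e 0) (e 2) (e 3) := (T.symm₂ (e 2) (e 3) (e 0)).trans (T.symm₁ (e 2) (e 0) (e 3))
  have h231 : T (e 2) (e 3) (e 1) = T (e 1) (e 2) (e 3) := (T.symm₂ (e 2) (e 3) (e 1)).trans (T.symm₁ (e 2) (e 1) (e 3))
  have h232 : T (e 2) (e 3) (e 2) = T (e 2) (e 2) (e 3) := (T.symm₂ (e 2) (e 3) (e 2))
  have h300 : T (e 3) (e 0) (e 0) = T (e 0) (e 0) (e 3) := (T.symm₁ (e 3) (e 0) (e 0)).trans (T.symm₂ (e 0) (e 3) (e 0))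
  have h301 : T (e 3) (e 0) (e 1) = T (e 0) (e 1) (e 3) := (T.symm₁ (e 3) (e 0) (e 1)).trans (T.symm₂ (e 0) (e 3) (e 1))
  have h302 : T (e 3) (e 0) (e 2) = T (e 0) (e 2) (e 3) := (T.symm₁ (e 3) (e 0) (e 2)).trans (T.symm₂ (e 0) (e 3) (e 2))
  have h303 : T (e 3) (e 0) (e 3) = T (e 0) (e 3) (e 3) := (T.symm₁ (e 3) (e 0) (e 3))
  have h310 : T (e 3) (e 1) (e 0) = T (e 0) (e 1) (e 3) := ((T.symm₁ (e 3) (e 1) (e 0)).trans (T.symm₂ (e 1) (e 3) (e 0))).trans (T.symm₁ (e 1) (e 0) (e 3))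
  have h311 : T (e 3) (e 1) (e 1) = T (e 1) (e 1) (e 3) := (T.symm₁ (e 3) (e 1) (e 1)).trans (T.symm₂ (e 1) (e 3) (e 1))
  have h312 : T (e 3) (e 1) (e 2) = T (e 1) (e 2) (e 3) := (T.symm₁ (e 3) (e 1) (e 2)).trans (T.symm₂ (e 1) (e 3) (e 2))
  have h313 : T (e 3) (e 1) (e 3) = T (e 1) (e 3) (e 3) := (T.symm₁ (e 3) (e 1) (e 3))
  have h320 : T (e 3) (e 2) (e 0) = T (e 0) (e 2) (e 3) := ((T.symm₁ (e 3) (e 2) (e 0)).trans (T.symm₂ (e 2) (e 3) (e 0))).trans (T.symm₁ (e 2) (e 0) (e 3))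
  have h321 : T (e 3) (e 2) (e 1) = T (e 1) (e 2) (e 3) := ((T.symm₁ (e 3) (e 2) (e 1)).trans (T.symm₂ (e 2) (e 3) (e 1))).trans (T.symm₁ (e 2) (e 1) (e 3))
  have h322 : T (e 3) (e 2) (e 2) = T (e 2) (e 2) (e 3) := (T.symm₁ (e 3) (e 2) (e 2)).trans (T.symm₂ (e 2) (e 3) (e 2))
  have h323 : T (e 3) (e 2) (e 3) = T (e 2) (e 3) (e 3) := (T.symm₁ (e 3) (e 2) (e 3))
  have h330 : T (e 3) (e 3) (e 0) = T (e 0) (e 3) (e 3) := (T.symm₂ (e 3) (e 3) (e 0)).trans (T.symm₁ (e 3) (e 0) (e 3))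
  have h331 : T (e 3) (e 3) (e 1) = T (e 1) (e 3) (e 3) := (T.symm₂ (e 3) (e 3) (e 1)).trans (T.symm₁ (e 3) (e 1) (e 3))
  have h332 : T (e 3) (e 3) (e 2) = T (e 2) (e 3) (e 3) := (T.symm₂ (e 3) (e 3) (e 2)).trans (T.symm₁ (e 3) (e 2) (e 3))
  have g0 : T (e 0) (e 0) (e 0) = 0 := h 0
  have g1 : T (e 1) (e 1) (e 1) = 0 := h 1
  have g2 : T (e 2) (e 2) (e 2) = 0 := h 2
  have g3 : T (e 3) (e 3) (e 3) = 0 := h 3
  simp only [Tri.cube, Tri.add₁, Tri.add₂, Tri.add₃, Tri.smul₁, Tri.smul₂, Tri.smul₃, h010, h020, h021, h030, h031, h032, h100, h101, h102, h103, h110, h120, h121, h130, h131, h132, h200, h201, h202, h203, h210, h211, h212, h213, h220, h221, h230, h231, h232, h300, h301, h302, h303, h310, h311, h312, h313, h320, h321, h322, h323, h330, h331, h332,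
    g0, g1, g2, g3] at h1 ⊢
  simp [skewPf, wcol]
  linear_combination -(x 0 * x 1 * x 2) * h1

end GrothLib.CubicTP12
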