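import Groth.Agent.Lib.CubicTP12.Bridge
import Groth.Agent.Lib.CubicTP12.Pfaffian

/-!
# Five points in general position give a linear Pfaffian representation
-/

set_option autoImplicit false
set_option linter.all false
set_option maxHeartbeats 2000000

universe u

open Module MvPolynomial GrothLib.CubicForm

namespace GrothLib.CubicTP12

variable {k : Type u} [Field k] [CharZero k]

theorem wcol_linear {V : Type u} [AddCommGroup V] [Module k V] (T : Tri k V) (e : Fin 4 → V)
    (x x' : Fin 4 → k) (r : k) :
    wcol T e (x + r • x') = wcol T e x + r • wcol T e x' := by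
  funext i
  fin_cases i <;> simp [wcol] <;> ring

theorem skewMat_linear (x x' : Fin 4 → k) (w w' : Fin 5 → k) (r : k) :
    skewMat (x + r • x') (w + r • w') = skewMat x w + r • skewMat x' w' := by
  ext i j
  fin_cases i <;> fin_cases j <;> simp [skewMat] <;> ring

/-- Five rational points in general position give a representation. -/
theorem exists_rep {F : MvPolynomial (Fin 4) k} (hF : F.IsHomogeneous 3) (p : Fin 5 → (Fin 4 → k))
    (hp : ∀ j, eval (p j) F = 0) (hgen : ∀ j : Fin 5, LinearIndependent k (fun i : Fin 4 => p (j.succAbove i))) :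
    ∃ M : Matrix (Fin 6) (Fin 6) (MvPolynomial (Fin 4) k), (∀ i j, (M i j).IsHomogeneous 1) ∧ M.transpose = -M ∧
      (∀ i, M i i = 0) ∧ ∃ c : k, c ≠ 0 ∧ M.det = C c * F ^ 2 := by
  classical
  have hli : LinearIndependent k (fun i : Fin 4 => p i.castSucc) := by
    have h := hgen (Fin.last 4)
    simp only [Fin.succAbove_last] at h
    exact h
  let B : Basis (Fin 4) k (Fin 4 → k) := basisOfLinearIndependentOfCardEqFinrank hli (by simp)
  have hB : ∀ i, B i = p i.castSucc := fun i => by simp [B]
  set c : Fin 4 → k := fun i => B.repr (p (Fin.last 4)) i with hc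
  have hsum : ∑ i, c i • p i.castSucc = p (Fin.last 4) := by
    simp only [← hB]; exact B.sum_repr _
  have hc0 : ∀ i, c i ≠ 0 := by
    intro i hi
    let d : Fin 5 → k := Fin.snoc c (-1)
    have hd : ∑ j, d j • p j = 0 := by
      rw [Fin.sum_univ_castSucc]
      simp only [d, Fin.snoc_castSucc, Fin.snoc_last, hsum, neg_one_smul, add_neg_cancel]
    rw [Fin.sum_univ_succAbove _ i.castSucc, show d i.castSucc = 0 by simp [d, hi], zero_smul, zero_add] at hd
    have h := Fintype.linearIndependent_iff.1 (hgen i.castSucc) _ hd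
    obtain ⟨m, hm⟩ := Fin.exists_succAbove_eq (Fin.castSucc_lt_last i).ne'
    have := h m
    simp only [hm, d, Fin.snoc_last] at this
    exact neg_ne_zero.2 one_ne_zero this
  let B' := B.isUnitSMul (w := c) fun i => (hc0 i).isUnit
  set e : Fin 4 → (Fin 4 → k) := fun i => B' i with he
  set T := ofPoly F with hT
  have hTp : ∀ j, T.cube (p j) = 0 := fun j => (ofPoly_cube_eq_zero_iff hF _).2 (hp j)
  have he' : ∀ i, e i = c i • p i.castSucc := fun i => by simp only [e, B', Module.Basis.isUnitSMul_apply, hB]
  have h0 : ∀ i, T.cube (e i) = 0 := fun i => by rw [he', T.cube_smul, hTp, mul_zero]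
  have h1 : T.cube (e 0 + e 1 + e 2 + e 3) = 0 := by
    rw [Fin.sum_univ_four] at hsum
    rw [he', he', he', he', hsum, hTp]
  let y : (Fin 4 → k) →ₗ[k] (Fin 4 → k) := B'.equivFun.toLinearMap
  have hy : ∀ v, y v 0 • e 0 + y v 1 • e 1 + y v 2 • e 2 + y v 3 • e 3 = v := fun v => by
    have := B'.sum_equivFun v
    rw [Fin.sum_univ_four] at this
    exact this
  let L : (Fin 4 → k) →ₗ[k] Matrix (Fin 6) (Fin 6) k :=
    { toFun := fun v => skewMat (y v) (wcol T e (y v))
      map_add' := fun v v' => by
        rw [map_add, ← one_smul k (y v'), wcol_linear, skewMat_linear, one_smul, one_smul]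
      map_smul' := fun r v => by
        have hw0 : wcol T e (0 : Fin 4 → k) = 0 := by
          funext i; fin_cases i <;> simp [wcol]
        have hs0 : skewMat (0 : Fin 4 → k) 0 = 0 := by
          ext i j; fin_cases i <;> fin_cases j <;> simp [skewMat]
        have h1 := wcol_linear T e 0 (y v) r
        rw [hw0, zero_add, zero_add] at h1
        have h2 := skewMat_linear 0 (y v) 0 (wcol T e (y v)) r
        rw [hs0, zero_add, zero_add, zero_add] at h2
        rw [map_smul, h1, h2, RingHom.id_apply] }
  let φ : Fin 6 → Fin 6 → ((Fin 4 → k) →ₗ[k] k) := fun i j => (Matrix.entryLinearMap k k i j) ∘ₗ L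
  have hφ : ∀ i j v, φ i j v = skewMat (y v) (wcol T e (y v)) i j := fun i j v => rfl
  refine ⟨Matrix.of fun i j => lf (φ i j), fun i j => isHomogeneous_lf _, ?_, fun i => ?_, 36, by norm_num, ?_⟩
  · refine Matrix.ext fun i j => ?_
    refine MvPolynomial.funext fun x => ?_
    simp only [Matrix.transpose_apply, Matrix.neg_apply, Matrix.of_apply, map_neg, eval_lf, hφ]
    exact transpose_skewMat _ _ _ _
  · refine MvPolynomial.funext fun x => ?_
    simp only [Matrix.of_apply, eval_lf, hφ, map_zero]
    exact diag_skewMat _ _ _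
  · refine MvPolynomial.funext fun x => ?_
    rw [RingHom.map_det, RingHom.mapMatrix_apply,
      show (Matrix.of fun i j => lf (φ i j)).map (eval x) = skewMat (y x) (wcol T e (y x)) from by
        ext i j
        simp only [Matrix.map_apply, Matrix.of_apply, eval_lf, hφ],
      det_skewMat, skewPf_wcol T e h0 h1, hy, hT, ofPoly_cube hF, map_mul, map_pow, eval_C]
    ring

end GrothLib.CubicTP12
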