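import Groth.Agent.Lib.CubicTP12.Rational
import Groth.Agent.Lib.CubicTP12.Rep
import Mathlib.FieldTheory.IntermediateField.Adjoin.Basic
import Mathlib.Topology.Order.IntermediateValue
import Mathlib.Topology.Algebra.Ring.Basic
import Mathlib.Topology.Order.OrderClosed
import Mathlib.Analysis.Polynomial.Basic

/-!
# A point with non-split tangent section in an extension of degree at most three
-/

set_option autoImplicit false
set_option linter.all false
set_option maxHeartbeats 1000000

universe u v w

open Module MvPolynomial GrothLib.CubicForm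

noncomputable section

namespace GrothLib.CubicTP12

/-- A real monic cubic has a root. -/
theorem exists_real_root (b c d : ℝ) : ∃ x : ℝ, x ^ 3 + b * x ^ 2 + c * x + d = 0 := by
  set M := |b| + |c| + |d| + 1
  have hb := abs_nonneg b
  have hc := abs_nonneg c
  have hd := abs_nonneg d
  have hM : 1 ≤ M := by simp only [M]; linarith
  have k1 : M ≤ M ^ 2 := by nlinarith
  have k2 : (1 : ℝ) ≤ M ^ 2 := by nlinarith
  have hneg : (-M) ^ 3 + b * (-M) ^ 2 + c * (-M) + d ≤ 0 := by
    have e1 : b * M ^ 2 ≤ |b| * M ^ 2 := mul_le_mul_of_nonneg_right (le_abs_self b) (by positivity)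
    have e2 : -c * M ≤ |c| * M ^ 2 := (mul_le_mul_of_nonneg_right (neg_le_abs c) (by linarith)).trans
      (mul_le_mul_of_nonneg_left k1 hc)
    have e3 : d ≤ |d| * M ^ 2 := (le_abs_self d).trans (le_mul_of_one_le_right hd k2)
    have e4 : M ^ 3 = (|b| + |c| + |d| + 1) * M ^ 2 := by simp only [M]; ring
    nlinarith
  have hpos : 0 ≤ M ^ 3 + b * M ^ 2 + c * M + d := by
    have e1 : -b * M ^ 2 ≤ |b| * M ^ 2 := mul_le_mul_of_nonneg_right (neg_le_abs b) (by positivity)
    have e2 : -c * M ≤ |c| * M ^ 2 := (mul_le_mul_of_nonneg_right (neg_le_abs c) (by linarith)).trans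
      (mul_le_mul_of_nonneg_left k1 hc)
    have e3 : -d ≤ |d| * M ^ 2 := (neg_le_abs d).trans (le_mul_of_one_le_right hd k2)
    have e4 : M ^ 3 = (|b| + |c| + |d| + 1) * M ^ 2 := by simp only [M]; ring
    nlinarith
  obtain ⟨x, -, hx⟩ := intermediate_value_Icc (show -M ≤ M by linarith)
    (f := fun x : ℝ => x ^ 3 + b * x ^ 2 + c * x + d) (by fun_prop) ⟨hneg, hpos⟩
  exact ⟨x, hx⟩

variable {k : Type u} [Field k] [CharZero k] {K : Type v} [Field K] [CharZero K] [IsAlgClosed K] [Algebra k K]
  {F : MvPolynomial (Fin 4) k} (hF : F.IsHomogeneous 3)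
  (hirr : Irreducible (MvPolynomial.map (algebraMap k K) F))
  (hcone : ¬ ∃ v : Fin 4 → k, v ≠ 0 ∧ ∑ i : Fin 4, v i • MvPolynomial.pderiv i F = 0)

include hF hirr hcone

/-- A rational line avoiding the points with split tangent section. -/
theorem exists_line : ∃ p d : Fin 4 → k, (ofPoly F).cube p ≠ 0 ∧ ∀ α : K,
    (up d + α • up p : Fin 4 → K) ≠ 0 ∧ ¬ TP (ofPoly (MvPolynomial.map (algebraMap k K) F)) (up d + α • up p) := by
  classical
  have hF' : (MvPolynomial.map (algebraMap k K) F).IsHomogeneous 3 := hF.map _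
  have hcone' := notCone_up (K := K) hF hcone
  have hV : finrank K (Fin 4 → K) = 4 := Module.finrank_fin_fun K
  obtain ⟨𝓛, hfin, hlines, hcov⟩ := exists_finite_cover hV (noPlane_of_irreducible hF' hirr)
    (notCone_of_pderiv hF' hcone') (through_finite hF' hirr hcone')
  obtain ⟨p, hp⟩ : ∃ p : Fin 4 → k, eval p F ≠ 0 := by
    by_contra! h
    refine hirr.ne_zero ?_
    rw [show F = 0 from MvPolynomial.funext (fun x => by rw [h x, map_zero]), map_zero]
  let s : Finset (Submodule K (Fin 4 → K)) := insert ⊥ hfin.toFinset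
  have hχ : ∀ L ∈ s, ∃ χ : (Fin 4 → K) →ₗ[K] K, χ ≠ 0 ∧
      Submodule.span K {(up p : Fin 4 → K)} ⊔ L ≤ LinearMap.ker χ := by
    intro L hL
    refine Submodule.exists_le_ker_of_lt_top _ (lt_top_iff_ne_top.2 fun h => ?_)
    have h1 : finrank K ↥(Submodule.span K {(up p : Fin 4 → K)}) ≤ 1 := by
      simpa using finrank_span_le_card (R := K) ({(up p : Fin 4 → K)} : Set (Fin 4 → K))
    have h2 : finrank K ↥L ≤ 2 := by
      rcases Finset.mem_insert.1 hL with rfl | hL
      · simp
      · exact ((hlines L (hfin.mem_toFinset.1 hL)).1).le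
    have h3 := Submodule.finrank_add_le_finrank_add_finrank (Submodule.span K {(up p : Fin 4 → K)}) L
    rw [h, finrank_top, hV] at h3
    omega
  choose! χ hχ0 hχle using hχ
  obtain ⟨d, hd⟩ := exists_rat (k := k) s (fun L (x : Fin 4 → K) => χ L x)
    (fun L _ => (isPolyVec_linear LinearMap.id).linear (χ L))
    (fun L hL => by
      by_contra! h
      exact hχ0 L hL (LinearMap.ext h))
  have key : ∀ L ∈ s, ∀ α : K, (up d + α • up p : Fin 4 → K) ∉ L := by
    intro L hL α hmem
    refine hd L hL ?_
    have h1 : χ L (up d + α • up p) = 0 := hχle L hL (Submodule.mem_sup_right hmem)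
    have h2 : χ L (up p) = 0 := hχle L hL (Submodule.mem_sup_left (Submodule.mem_span_singleton_self _))
    rw [map_add, map_smul, h2, smul_zero, add_zero] at h1
    exact h1
  refine ⟨p, d, fun h => hp ((ofPoly_cube_eq_zero_iff hF p).1 h), fun α => ⟨fun h => ?_, fun h => ?_⟩⟩
  · exact key ⊥ (Finset.mem_insert_self _ _) α (by rw [h]; exact Submodule.zero_mem _)
  · obtain ⟨L, hL, hmem⟩ := hcov _ h
    exact key L (Finset.mem_insert_of_mem (hfin.mem_toFinset.2 hL)) α hmem

/-- A representation over a small subextension of a field in which cubic equations have roots. -/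
theorem exists_small_rep (R : Type w) [Field R] [CharZero R] [Algebra k R]
    (root : ∀ b c d : R, ∃ x : R, x ^ 3 + b * x ^ 2 + c * x + d = 0)
    (emb : ∀ E : IntermediateField k R, FiniteDimensional k ↥E → Nonempty (↥E →ₐ[k] K)) :
    ∃ E : IntermediateField k R, FiniteDimensional k ↥E ∧ finrank k ↥E ≤ 3 ∧
      ∃ M : Matrix (Fin 6) (Fin 6) (MvPolynomial (Fin 4) ↥E), (∀ i j, (M i j).IsHomogeneous 1) ∧ M.transpose = -M ∧
        (∀ i, M i i = 0) ∧
        ∃ c : ↥E, c ≠ 0 ∧ M.det = MvPolynomial.C c * (MvPolynomial.map (algebraMap k ↥E) F) ^ 2 := by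
  classical
  obtain ⟨p, d, hp, hline⟩ := exists_line hF hirr hcone
  set T := ofPoly F with hT
  set f : Polynomial k := Polynomial.C (T.cube p) * Polynomial.X ^ 3 + Polynomial.C (3 * T d p p) * Polynomial.X ^ 2 +
    Polynomial.C (3 * T d d p) * Polynomial.X + Polynomial.C (T.cube d) with hf
  have hdeg : f.natDegree = 3 := Polynomial.natDegree_cubic hp
  have hf0 : f ≠ 0 := fun h => by rw [h, Polynomial.natDegree_zero] at hdeg; omega
  have hroot : ∃ r : R, Polynomial.aeval r f = 0 := by
    have hA : algebraMap k R (T.cube p) ≠ 0 := (map_ne_zero _).2 hp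
    obtain ⟨x, hx⟩ := root (algebraMap k R (3 * T d p p) / algebraMap k R (T.cube p))
      (algebraMap k R (3 * T d d p) / algebraMap k R (T.cube p)) (algebraMap k R (T.cube d) / algebraMap k R (T.cube p))
    refine ⟨x, ?_⟩
    simp only [hf, map_add, map_mul, Polynomial.aeval_C, Polynomial.aeval_X_pow, Polynomial.aeval_X]
    field_simp at hx
    simp only [map_mul] at hx
    linear_combination hx
  obtain ⟨r, hr⟩ := hroot
  have hint : IsIntegral k r := IsAlgebraic.isIntegral ⟨f, hf0, hr⟩
  let E : IntermediateField k R := IntermediateField.adjoin k {r}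
  haveI hfin : FiniteDimensional k ↥E := IntermediateField.adjoin.finiteDimensional hint
  have hE3 : finrank k ↥E ≤ 3 := by
    rw [IntermediateField.adjoin.finrank hint]
    exact hdeg ▸ Polynomial.natDegree_le_of_dvd (minpoly.dvd k r hr) hf0
  refine ⟨E, hfin, hE3, ?_⟩
  obtain ⟨σ⟩ := emb E hfin
  letI : Algebra ↥E K := σ.toRingHom.toAlgebra
  haveI : IsScalarTower k ↥E K := IsScalarTower.of_algebraMap_eq fun x => (σ.commutes x).symm
  haveI : CharZero ↥E := charZero_of_injective_algebraMap (algebraMap k ↥E).injective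
  let α : ↥E := ⟨r, IntermediateField.mem_adjoin_simple_self k r⟩
  set FE := MvPolynomial.map (algebraMap k ↥E) F with hFE
  have hFE' : FE.IsHomogeneous 3 := hF.map _
  have hmap : MvPolynomial.map (algebraMap ↥E K) FE = MvPolynomial.map (algebraMap k K) F := by
    rw [hFE, MvPolynomial.map_map, ← IsScalarTower.algebraMap_eq]
  have hirrE : Irreducible (MvPolynomial.map (algebraMap ↥E K) FE) := by rw [hmap]; exact hirr
  have hconeE : ¬ ∃ v : Fin 4 → ↥E, v ≠ 0 ∧ ∑ i : Fin 4, v i • MvPolynomial.pderiv i FE = 0 := by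
    rintro ⟨v, hv0, hv⟩
    refine notCone_up (K := K) hF hcone ⟨up v, fun h => hv0 (up_injective (h.trans up_zero.symm)), ?_⟩
    have := congrArg (MvPolynomial.map (algebraMap ↥E K)) hv
    rw [map_sum, map_zero] at this
    rw [← hmap, ← this]
    refine Finset.sum_congr rfl fun i _ => ?_
    rw [MvPolynomial.smul_eq_C_mul, MvPolynomial.smul_eq_C_mul, map_mul, MvPolynomial.map_C, MvPolynomial.pderiv_map]
    rfl
  set a : Fin 4 → ↥E := up d + α • up p with ha
  have hup : (up a : Fin 4 → K) = up d + algebraMap ↥E K α • up p := by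
    funext i
    simp [a, up, ← IsScalarTower.algebraMap_apply]
    exact (Algebra.smul_def _ _).symm
  obtain ⟨hne, hna⟩ := hline (algebraMap ↥E K α)
  have ha0 : a ≠ 0 := fun h => hne (by rw [← hup, h, up_zero])
  have hFa : eval a FE = 0 := by
    refine (ofPoly_cube_eq_zero_iff hFE' a).1 ?_
    have hα : Polynomial.aeval α f = 0 := by
      refine (algebraMap ↥E R).injective ?_
      rw [map_zero, ← Polynomial.aeval_algebraMap_apply]
      exact hr
    simp only [hf, map_add, map_mul, Polynomial.aeval_C, Polynomial.aeval_X_pow, Polynomial.aeval_X, map_ofNat] at hα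
    rw [ha, hFE, Tri.cube_add_smul, Tri.cube, Tri.cube, tri_up, tri_up, tri_up, tri_up]
    simp only [← hT, show T p p p = T.cube p from rfl, show T d d d = T.cube d from rfl]
    linear_combination hα
  obtain ⟨q, -, hq, hgen⟩ := exists_five (K := K) hFE' hirrE hconeE a ha0 hFa (by rw [hup, hmap]; exact hna)
  exact exists_rep hFE' q hq hgen

end GrothLib.CubicTP12
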