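import Groth.Agent.Lib.CubicTP12.Basic
import Groth.Agent.Lib.CubicForm.TwentySeven

/-!
# The points with split tangent section lie on finitely many lines
-/

set_option autoImplicit false
set_option linter.all false
set_option maxHeartbeats 1000000

universe u v

open Module GrothLib.CubicForm Matrix

namespace GrothLib.CubicTP12

variable {k : Type u} [Field k] [CharZero k] {V : Type v} [AddCommGroup V] [Module k V] {T : Tri k V}

theorem tri_eq_zero {ℓ : Submodule k V} (hℓ : ∀ u ∈ ℓ, ∀ x, T u u x = 0) {z z' : V} (hz : z ∈ ℓ) (hz' : z' ∈ ℓ)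
    (x : V) : T z z' x = 0 := by
  have h := hℓ _ (ℓ.add_mem hz hz') x
  simp only [Tri.add₁, Tri.add₂, hℓ z hz, hℓ z' hz', T.symm₁ z' z x] at h
  have : 2 * T z z' x = 0 := by linear_combination h
  simpa using this

/-- The quadratic form `T z` on a pair of vectors. -/
def detQ (T : Tri k V) (e₀ e₁ z : V) : k := T e₀ e₀ z * T e₁ e₁ z - T e₀ e₁ z * T e₀ e₁ z

section

variable [FiniteDimensional k V] (hV : finrank k V = 4) {ℓ : Submodule k V} (hℓ : finrank k ↥ℓ = 2)
  (hsing : ∀ u ∈ ℓ, ∀ x, T u u x = 0)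

include hV hℓ

theorem isCompl_of_inf {U : Submodule k V} (hU : finrank k ↥U = 2) (h : U ⊓ ℓ = ⊥) : IsCompl U ℓ := by
  refine ⟨disjoint_iff.2 h, codisjoint_iff.2 (Submodule.eq_top_of_finrank_eq ?_)⟩
  have := Submodule.finrank_sup_add_finrank_inf_eq U ℓ
  rw [h, finrank_bot, hU, hℓ] at this
  omega

omit hV in
theorem exists_pair : ∃ l₀ l₁ : V, l₀ ∈ ℓ ∧ l₁ ∈ ℓ ∧ l₀ ≠ 0 ∧ l₁ ∉ Submodule.span k {l₀} ∧
    ℓ = Submodule.span k {l₀, l₁} := by
  obtain ⟨l₀, h0, h0'⟩ := exists_mem_notMem_span_singleton (U := ℓ) (by omega) (0 : V)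
  obtain ⟨l₁, h1, h1'⟩ := exists_mem_notMem_span_singleton (U := ℓ) (by omega) l₀
  have h0n : l₀ ≠ 0 := fun h => h0' (by rw [h]; exact zero_mem _)
  exact ⟨l₀, l₁, h0, h1, h0n, h1', eq_span_pair hℓ h0 h1 h0n h1'⟩

omit hV in
/-- Two independent vectors of the line span it. -/
theorem span_of_indep {z z' : V} (hz : z ∈ ℓ) (hz' : z' ∈ ℓ) (h0 : z ≠ 0) (h : z' ∉ Submodule.span k {z}) :
    ℓ = Submodule.span k {z, z'} := eq_span_pair hℓ hz hz' h0 h

include hsing in
/-- Lines skew to a double line. -/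
theorem skew_unique (hNP : NoPlane T) (hNC : NotCone T) {U₁ U₂ : Submodule k V} (h₁ : T.IsLine U₁)
    (h₂ : T.IsLine U₂) (hd₁ : U₁ ⊓ ℓ = ⊥) (hd₂ : U₂ ⊓ ℓ = ⊥) : U₁ = U₂ := by
  by_contra hne
  have hc₁ := isCompl_of_inf hV hℓ h₁.1 hd₁
  have hc₂ := isCompl_of_inf hV hℓ h₂.1 hd₂
  obtain ⟨e₀', he₀, he₀'⟩ := exists_mem_notMem_span_singleton (U := U₁) (by rw [h₁.1]) (0 : V)
  obtain ⟨e₁, he₁, he₁'⟩ := exists_mem_notMem_span_singleton (U := U₁) (by rw [h₁.1]) e₀'
  have he₀n : e₀' ≠ 0 := fun h => he₀' (by rw [h]; exact zero_mem _)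
  have hU₁ := eq_span_pair h₁.1 he₀ he₁ he₀n he₁'
  have dec : ∀ y : V, ∃ z ∈ ℓ, y - z ∈ U₂ := fun y => by
    obtain ⟨u, hu, z, hz, rfl⟩ := Submodule.mem_sup.1 (hc₂.sup_eq_top ▸ Submodule.mem_top (x := y))
    exact ⟨z, hz, by rwa [add_sub_cancel_right]⟩
  obtain ⟨z₀, hz₀, hu₀⟩ := dec e₀'
  obtain ⟨z₁, hz₁, hu₁⟩ := dec e₁
  have ident : ∀ s t : k, T (s • e₀' + t • e₁) (s • e₀' + t • e₁) (s • z₀ + t • z₁) = 0 := by
    intro s t
    set y := s • e₀' + t • e₁
    set z := s • z₀ + t • z₁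
    have hy : y ∈ U₁ := U₁.add_mem (U₁.smul_mem _ he₀) (U₁.smul_mem _ he₁)
    have hz : z ∈ ℓ := ℓ.add_mem (ℓ.smul_mem _ hz₀) (ℓ.smul_mem _ hz₁)
    have hu : y + (-1 : k) • z ∈ U₂ := by
      have : y + (-1 : k) • z = s • (e₀' - z₀) + t • (e₁ - z₁) := by simp only [y, z]; module
      rw [this]
      exact U₂.add_mem (U₂.smul_mem _ hu₀) (U₂.smul_mem _ hu₁)
    have h := h₂.2 _ hu
    rw [T.cube_add_smul, h₁.2 y hy, T.symm₁₃ y z z, hsing z hz, show T.cube z = 0 from hsing z hz z] at h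
    have : 3 * T y y z = 0 := by linear_combination -h
    simpa using this
  have i10 := ident 1 0
  have i01 := ident 0 1
  have i11 := ident 1 1
  have i1n := ident 1 (-1)
  simp [T.symm₁ e₁ e₀'] at i10 i01 i11 i1n
  -- vertices
  have vertex : ∀ z ∈ ℓ, T e₀' e₀' z = 0 → T e₀' e₁ z = 0 → T e₁ e₁ z = 0 → z = 0 := by
    intro z hz ha hb hc
    refine hNC z fun x => ?_
    obtain ⟨y, hy, w, hw, rfl⟩ := Submodule.mem_sup.1 (hc₁.sup_eq_top ▸ Submodule.mem_top (x := x))
    rw [hU₁] at hy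
    obtain ⟨s, t, rfl⟩ := Submodule.mem_span_pair.1 hy
    have k1 : ∀ x y, T z w x = 0 ∧ T z x w = 0 ∧ (T z x y = T x y z) := fun x y =>
      ⟨tri_eq_zero hsing hz hw x, by rw [T.symm₂]; exact tri_eq_zero hsing hz hw x, T.rot z x y⟩
    simp only [Tri.add₂, Tri.add₃, Tri.smul₂, Tri.smul₃, (k1 e₀' e₀').1, (k1 e₀' e₀').2.1, (k1 e₁ e₁).1,
      (k1 e₁ e₁).2.1, (k1 w w).1, (k1 e₀' e₀').2.2, (k1 e₀' e₁).2.2, (k1 e₁ e₀').2.2, (k1 e₁ e₁).2.2,
      T.symm₁ e₁ e₀', ha, hb, hc]
    ring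
  by_cases hdep : ∃ s t : k, (s ≠ 0 ∨ t ≠ 0) ∧ s • z₀ + t • z₁ = 0
  · -- a common point
    obtain ⟨s, t, hst, hz⟩ := hdep
    set y := s • e₀' + t • e₁ with hydef
    have hy1 : y ∈ U₁ := U₁.add_mem (U₁.smul_mem _ he₀) (U₁.smul_mem _ he₁)
    have hy2 : y ∈ U₂ := by
      have : y = s • (e₀' - z₀) + t • (e₁ - z₁) + (s • z₀ + t • z₁) := by simp only [y]; module
      rw [this, hz, add_zero]
      exact U₂.add_mem (U₂.smul_mem _ hu₀) (U₂.smul_mem _ hu₁)
    -- another vector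
    obtain ⟨s', t', hdet⟩ : ∃ s' t' : k, s * t' - t * s' ≠ 0 := by
      rcases hst with h | h
      · exact ⟨0, 1, by simpa using h⟩
      · exact ⟨1, 0, by simpa using h⟩
    set z' := s' • z₀ + t' • z₁ with hz'def
    have hz' : z' ∈ ℓ := ℓ.add_mem (ℓ.smul_mem _ hz₀) (ℓ.smul_mem _ hz₁)
    have hall : ∀ p q : k, T (p • e₀' + q • e₁) (p • e₀' + q • e₁) z' = 0 := by
      have hnz : ∀ p q : k, p • z₀ + q • z₁ = ((s * q - t * p) / (s * t' - t * s')) • z' +
          ((p * t' - q * s') / (s * t' - t * s')) • (s • z₀ + t • z₁) := fun p q => by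
        simp only [z']
        match_scalars <;> field_simp <;> ring
      have hG : ∀ p q : k, s * q - t * p ≠ 0 → T (p • e₀' + q • e₁) (p • e₀' + q • e₁) z' = 0 := fun p q hpq => by
        have := ident p q
        rw [hnz p q, hz, smul_zero, add_zero, Tri.smul₃] at this
        exact (mul_eq_zero.1 this).resolve_left (div_ne_zero hpq hdet)
      intro p q
      by_cases hpq : s * q - t * p = 0
      · have g1 := hG (p + 1 * s') (q + 1 * t') (by ring_nf; intro h; apply hdet; linear_combination h - hpq)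
        have g2 := hG (p + (-1) * s') (q + (-1) * t') (by ring_nf; intro h; apply hdet; linear_combination hpq - h)
        have g3 := hG (p + 2 * s') (q + 2 * t') (by
          ring_nf
          intro h
          apply hdet
          linear_combination (1 / 2 : k) * h - (1 / 2 : k) * hpq)
        simp [T.symm₁ e₁ e₀'] at g1 g2 g3 ⊢
        linear_combination g1 + (1 / 3 : k) * g2 - (1 / 3 : k) * g3
      · exact hG p q hpq
    have a1 := hall 1 0
    have a2 := hall 0 1
    have a3 := hall 1 1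
    simp [T.symm₁ e₁ e₀'] at a1 a2 a3
    have hb : T e₀' e₁ z' = 0 := by linear_combination (1 / 2 : k) * a3 - (1 / 2 : k) * a1 - (1 / 2 : k) * a2
    have hz'0 := vertex z' hz' a1 hb a2
    -- both difference vectors vanish
    have hzz : z₀ = 0 ∧ z₁ = 0 := by
      have h0 : (s * t' - t * s') • z₀ = t' • (s • z₀ + t • z₁) - t • (s' • z₀ + t' • z₁) := by module
      have h1 : (s * t' - t * s') • z₁ = s • (s' • z₀ + t' • z₁) - s' • (s • z₀ + t • z₁) := by module
      rw [hz, ← hz'def, hz'0, smul_zero, smul_zero, sub_zero, smul_eq_zero] at h0 h1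
      exact ⟨h0.resolve_left hdet, h1.resolve_left hdet⟩
    refine hne (Submodule.eq_of_le_of_finrank_eq ?_ (h₁.1.trans h₂.1.symm))
    rw [hU₁, Submodule.span_le]
    rintro x (rfl | rfl)
    · simpa [hzz.1] using hu₀
    · simpa [hzz.2] using hu₁
  · push Not at hdep
    have hz0 : z₀ ≠ 0 := fun h => hdep 1 0 (Or.inl one_ne_zero) (by simp [h])
    have hind : z₁ ∉ Submodule.span k {z₀} := fun h => by
      obtain ⟨r, hr⟩ := Submodule.mem_span_singleton.1 h
      exact hdep r (-1) (Or.inr (by simp)) (by rw [← hr]; module)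
    have hℓ' := span_of_indep hℓ hz₀ hz₁ hz0 hind
    -- a common zero of the two binary forms
    set b := T e₀' e₁ z₀
    set c := T e₁ e₁ z₀
    have ha' : T e₀' e₀' z₁ = -2 * b := by simp only [b]; linear_combination (1 / 2 : k) * i11 - (1 / 2 : k) * i1n - i01
    have hc' : 2 * T e₀' e₁ z₁ = -c := by simp only [c]; linear_combination (1 / 2 : k) * i11 + (1 / 2 : k) * i1n - i10
    by_cases hbc : b = 0 ∧ c = 0
    · exact hz0 (vertex z₀ hz₀ i10 hbc.1 hbc.2)
    set y := c • e₀' + (-2 * b) • e₁ with hydef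
    have hy : y ∈ U₁ := U₁.add_mem (U₁.smul_mem _ he₀) (U₁.smul_mem _ he₁)
    have hy0 : y ≠ 0 := fun h => hbc (by
      have h1 : -2 * b = 0 := by
        by_contra hb
        refine he₁' (Submodule.mem_span_singleton.2 ⟨-((-2 * b)⁻¹ * c), ?_⟩)
        have : (-2 * b) • e₁ = -(c • e₀') := eq_neg_of_add_eq_zero_right h
        calc (-((-2 * b)⁻¹ * c)) • e₀' = (-2 * b)⁻¹ • (-(c • e₀')) := by module
          _ = e₁ := by rw [← this, inv_smul_smul₀ hb]
      have hb0 : b = 0 := by simpa using h1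
      rw [hydef, h1, zero_smul, add_zero, smul_eq_zero] at h
      exact ⟨hb0, h.resolve_right he₀n⟩)
    have q0 : T y y z₀ = 0 := by
      simp [y, T.symm₁ e₁ e₀']
      linear_combination c ^ 2 * i10
    have q1 : T y y z₁ = 0 := by
      simp [y, T.symm₁ e₁ e₀']
      linear_combination c ^ 2 * ha' + (-2 * b * c) * hc' + 4 * b ^ 2 * i01
    have hyℓ : y ∉ Submodule.span k ({z₀, z₁} : Set V) := fun h =>
      hy0 ((Submodule.mem_bot k).1 (hd₁ ▸ Submodule.mem_inf.2 ⟨hy, hℓ' ▸ h⟩))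
    refine plane_false hNP (inj_emb hz0 hind hyℓ) fun x => ?_
    rw [cube_emb, hsing z₀ hz₀ z₀, hsing z₁ hz₁ z₁, hsing z₀ hz₀ z₁, tri_eq_zero hsing hz₀ hz₁ z₁,
      show T y y y = 0 from h₁.2 y hy, hsing z₀ hz₀ y, hsing z₁ hz₁ y, tri_eq_zero hsing hz₀ hz₁ y,
      show T z₀ y y = 0 from (T.symm₁₃ z₀ y y).trans q0, show T z₁ y y = 0 from (T.symm₁₃ z₁ y y).trans q1]
    ring

variable [IsAlgClosed k]

include hsing in
/-- Lines tangentially double, meeting the double line. -/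
theorem finite_tangent_lines (hNP : NoPlane T) (hNC : NotCone T) :
    {U : Submodule k V | T.IsLine U ∧ U ⊓ ℓ ≠ ⊥ ∧ ∃ b ∈ U, (∃ x, T b b x ≠ 0) ∧ U ≤ LinearMap.ker (T.lin b b) ∧
      ∀ u ∈ U, ∀ h ∈ LinearMap.ker (T.lin b b), T u u h = 0}.Finite := by
  classical
  obtain ⟨l₀, l₁, hl₀, hl₁, hl₀n, hl₁', hℓeq⟩ := exists_pair hℓ
  obtain ⟨W, hW⟩ := Submodule.exists_isCompl ℓ
  have hW2 : finrank k ↥W = 2 := by
    have := Submodule.finrank_sup_add_finrank_inf_eq ℓ W
    rw [hW.sup_eq_top, hW.inf_eq_bot, finrank_top, finrank_bot, hℓ, hV] at this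
    omega
  obtain ⟨e₀', he₀, he₀'⟩ := exists_mem_notMem_span_singleton (U := W) (by omega) (0 : V)
  obtain ⟨e₁, he₁, he₁'⟩ := exists_mem_notMem_span_singleton (U := W) (by omega) e₀'
  have he₀n : e₀' ≠ 0 := fun h => he₀' (by rw [h]; exact zero_mem _)
  have hWeq := eq_span_pair hW2 he₀ he₁ he₀n he₁'
  have vertex : ∀ z ∈ ℓ, T e₀' e₀' z = 0 → T e₀' e₁ z = 0 → T e₁ e₁ z = 0 → z = 0 := by
    intro z hz ha hb hc
    refine hNC z fun x => ?_
    obtain ⟨w, hw, y, hy, rfl⟩ := Submodule.mem_sup.1 (hW.sup_eq_top ▸ Submodule.mem_top (x := x))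
    rw [hWeq] at hy
    obtain ⟨s, t, rfl⟩ := Submodule.mem_span_pair.1 hy
    have k1 : ∀ x y, T z w x = 0 ∧ T z x w = 0 ∧ (T z x y = T x y z) := fun x y =>
      ⟨tri_eq_zero hsing hz hw x, by rw [T.symm₂]; exact tri_eq_zero hsing hz hw x, T.rot z x y⟩
    simp only [Tri.add₂, Tri.add₃, Tri.smul₂, Tri.smul₃, (k1 e₀' e₀').1, (k1 e₀' e₀').2.1, (k1 e₁ e₁).1,
      (k1 e₁ e₁).2.1, (k1 w w).1, (k1 e₀' e₀').2.2, (k1 e₀' e₁).2.2, (k1 e₁ e₀').2.2, (k1 e₁ e₁).2.2,
      T.symm₁ e₁ e₀', ha, hb, hc]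
    ring
  -- the discriminant
  set a := T e₀' e₀' l₀
  set b := T e₀' e₁ l₀
  set c := T e₁ e₁ l₀
  set a' := T e₀' e₀' l₁
  set b' := T e₀' e₁ l₁
  set c' := T e₁ e₁ l₁
  obtain ⟨p, q, r, s₀, hf⟩ := CubicTangent.exists_quad_factor (a * c - b * b) (a * c' + a' * c - 2 * b * b')
    (a' * c' - b' * b')
  have hD : ∀ x y : k, detQ T e₀' e₁ (x • l₀ + y • l₁) = (p * x + q * y) * (r * x + s₀ * y) := by
    intro x y
    rw [← hf]
    simp [detQ, a, b, c, a', b', c']
    ring
  have hnz : (p ≠ 0 ∨ q ≠ 0) ∧ (r ≠ 0 ∨ s₀ ≠ 0) := by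
    by_contra hcon
    have hzero : ∀ x y : k, (p * x + q * y) * (r * x + s₀ * y) = 0 := fun x y => by
      rcases not_and_or.1 hcon with h | h <;> push Not at h <;> simp [h.1, h.2]
    have h10 := hf 1 0
    have h01 := hf 0 1
    have h11 := hf 1 1
    rw [hzero] at h10 h01 h11
    have k1 : a * c = b * b := by linear_combination h10
    have k2 : a' * c' = b' * b' := by linear_combination h01
    have k3 : a * c' + a' * c = 2 * b * b' := by linear_combination h11 - h10 - h01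
    have k4 : a * c' - a' * c = 0 := pow_eq_zero_iff (two_ne_zero) |>.1 (show (a * c' - a' * c) ^ 2 = 0 by
      linear_combination (a * c' + a' * c + 2 * b * b') * k3 - 4 * (a' * c') * k1 - 4 * (b * b) * k2)
    -- dependent matrices give a vertex
    have dep : ∃ x y : k, (x ≠ 0 ∨ y ≠ 0) ∧ x * a + y * a' = 0 ∧ x * b + y * b' = 0 ∧ x * c + y * c' = 0 := by
      by_cases ha : a = 0 ∧ a' = 0
      · have hb : b = 0 := by
          have : b * b = 0 := by rw [← k1, ha.1, zero_mul]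
          simpa using this
        have hb' : b' = 0 := by
          have : b' * b' = 0 := by rw [← k2, ha.2, zero_mul]
          simpa using this
        by_cases hc : c = 0
        · exact ⟨1, 0, Or.inl one_ne_zero, by simp [ha.1], by simp [hb], by simp [hc]⟩
        · exact ⟨c', -c, Or.inr (neg_ne_zero.2 hc), by simp [ha.1, ha.2], by simp [hb, hb'], by ring⟩
      · refine ⟨a', -a, ?_, by ring, ?_, by linear_combination -k4⟩
        · by_contra h
          push Not at h
          exact ha ⟨neg_eq_zero.1 h.2, h.1⟩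
        · refine (pow_eq_zero_iff two_ne_zero).1 (show (a' * b + -a * b') ^ 2 = 0 from ?_)
          linear_combination (-(a' * a')) * k1 - (a * a) * k2 + (a * a') * k3
    obtain ⟨x, y, hxy, h1, h2, h3⟩ := dep
    have hv := vertex (x • l₀ + y • l₁) (ℓ.add_mem (ℓ.smul_mem _ hl₀) (ℓ.smul_mem _ hl₁))
      (by simpa using h1) (by simpa using h2) (by simpa using h3)
    refine hxy.elim (fun hx => ?_) (fun hy => ?_)
    · have hy : y ≠ 0 := fun hy => by
        rw [hy, zero_smul, add_zero, smul_eq_zero] at hv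
        exact hv.elim hx hl₀n
      refine hl₁' (Submodule.mem_span_singleton.2 ⟨-(y⁻¹ * x), ?_⟩)
      have : y • l₁ = -(x • l₀) := eq_neg_of_add_eq_zero_right hv
      calc (-(y⁻¹ * x)) • l₀ = y⁻¹ • (-(x • l₀)) := by module
        _ = l₁ := by rw [← this, inv_smul_smul₀ hy]
    · refine hl₁' (Submodule.mem_span_singleton.2 ⟨-(y⁻¹ * x), ?_⟩)
      have : y • l₁ = -(x • l₀) := eq_neg_of_add_eq_zero_right hv
      calc (-(y⁻¹ * x)) • l₀ = y⁻¹ • (-(x • l₀)) := by module
        _ = l₁ := by rw [← this, inv_smul_smul₀ hy]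
  let dir : Bool → V := fun i => if i then q • l₀ + (-p) • l₁ else s₀ • l₀ + (-r) • l₁
  set 𝒰 := {U : Submodule k V | T.IsLine U ∧ U ⊓ ℓ ≠ ⊥ ∧ ∃ b ∈ U, (∃ x, T b b x ≠ 0) ∧
    U ≤ LinearMap.ker (T.lin b b) ∧ ∀ u ∈ U, ∀ h ∈ LinearMap.ker (T.lin b b), T u u h = 0}
  -- the data of a line
  have data : ∀ U ∈ 𝒰, ∃ s ∈ U, s ∈ ℓ ∧ s ≠ 0 ∧ ∃ y z, y ∈ W ∧ z ∈ ℓ ∧ y ≠ 0 ∧ y + z ∈ U ∧
      y + z ∉ Submodule.span k {s} ∧ (∀ x, T y s x = 0) ∧ T.cube y + 3 * T y y z = 0 ∧ ∃ w ∈ ℓ, T y y w ≠ 0 := by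
    rintro U ⟨hU, hne, b, hb, ⟨x₀, hx₀⟩, hle, htan⟩
    obtain ⟨s, hs, hs0⟩ := (Submodule.ne_bot_iff _).1 hne
    obtain ⟨z, hz, y, hy, hzy⟩ := Submodule.mem_sup.1 (hW.sup_eq_top ▸ Submodule.mem_top (x := b))
    have hbℓ : b ∉ ℓ := fun h => hx₀ (hsing b h x₀)
    have hy0 : y ≠ 0 := fun h => hbℓ (by rw [← hzy, h, add_zero]; exact hz)
    have hbs : b ∉ Submodule.span k {s} := fun h =>
      hbℓ ((Submodule.span_le.2 (Set.singleton_subset_iff.2 hs.2)) h)
    have hUeq := eq_span_pair hU.1 hs.1 hb hs0 hbs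
    have hbz : ∀ w ∈ ℓ, T b b w = T y y w := by
      intro w hw
      rw [← hzy]
      simp [hsing z hz, tri_eq_zero hsing hz hw, T.symm₂ z y w, T.symm₁ y z w]
    -- the double line is not in the tangent plane
    obtain ⟨w, hw, hwb⟩ : ∃ w ∈ ℓ, T b b w ≠ 0 := by
      by_contra! hall
      obtain ⟨w, hw, hws⟩ := exists_mem_notMem_span_singleton (U := ℓ) (by omega) s
      have hℓ' := span_of_indep hℓ hs.2 hw hs0 hws
      refine plane_false hNP (inj_emb hs0 hws (hℓ' ▸ hbℓ)) fun x => ?_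
      rw [cube_emb, hsing s hs.2 s, hsing w hw w, hsing s hs.2 w, tri_eq_zero hsing hs.2 hw w,
        show T b b b = 0 from hU.2 b hb, hsing s hs.2 b, hsing w hw b, tri_eq_zero hsing hs.2 hw b,
        show T s b b = 0 from T.eq_zero_of_cube_eq_zero U hU.2 hs.1 hb hb,
        show T w b b = 0 from (T.symm₁₃ w b b).trans (hall w hw)]
      ring
    have hbs' : ∀ x, T b s x = 0 := by
      have hP : ∀ h, T b b h = 0 → T b s h = 0 := fun h hh => by
        have h1 := htan (b + s) (U.add_mem hb hs.1) h hh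
        simp [T.symm₁ s b h, hsing s hs.2 h, hh] at h1
        exact h1
      intro x
      have h1 := hP (x - (T b b x / T b b w) • w) (by simp [div_mul_cancel₀ _ hwb])
      have h2 : T b s w = 0 := by rw [T.rot]; exact tri_eq_zero hsing hs.2 hw b
      simpa [h2] using h1
    refine ⟨s, hs.1, hs.2, hs0, y, z, hy, hz, hy0, by rw [add_comm, hzy]; exact hb, by rw [add_comm, hzy]; exact hbs,
      fun x => ?_, ?_, w, hw, by rw [← hbz w hw]; exact hwb⟩
    · have h1 := hbs' x
      rw [← hzy] at h1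
      simpa [tri_eq_zero hsing hz hs.2 x] using h1
    · have h1 := hU.2 b hb
      rw [← hzy, add_comm, show y + z = y + (1 : k) • z by simp, T.cube_add_smul, T.symm₁₃ y z z, hsing z hz,
        show T.cube z = 0 from hsing z hz z] at h1
      linear_combination h1
  choose! S hS1 hS2 hS3 Y Z hY hZ hY0 hYZ hYZs hYs hcub hYw using data
  -- the point on the double line determines the line
  have uniq : ∀ U ∈ 𝒰, ∀ U' ∈ 𝒰, S U' ∈ Submodule.span k {S U} → U' = U := by
    intro U hU U' hU' hmem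
    obtain ⟨μ, hμ⟩ := Submodule.mem_span_singleton.1 hmem
    have hμ0 : μ ≠ 0 := fun h => hS3 U' hU' (by rw [← hμ, h, zero_smul])
    have hYs' : ∀ x, T (Y U') (S U) x = 0 := fun x => by
      have := hYs U' hU' x
      rw [← hμ, Tri.smul₂] at this
      exact (mul_eq_zero.1 this).resolve_left hμ0
    obtain ⟨ν', hν⟩ : ∃ t : k, t • Y U = Y U' := by
      refine Submodule.mem_span_singleton.1 ?_
      by_contra hind
      have hW' := eq_span_pair hW2 (hY U hU) (hY U' hU') (hY0 U hU) hind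
      have hz : ∀ y ∈ W, ∀ x, T y (S U) x = 0 := fun y hy x => by
        rw [hW'] at hy
        obtain ⟨s, t, rfl⟩ := Submodule.mem_span_pair.1 hy
        simp [hYs U hU x, hYs' x]
      refine hS3 U hU (vertex (S U) (hS2 U hU) ?_ ?_ ?_) <;> rw [T.symm₂]
      · exact hz _ he₀ _
      · exact hz _ he₀ _
      · exact hz _ he₁ _
    have hν0 : ν' ≠ 0 := fun h => hY0 U' hU' (by rw [← hν, h, zero_smul])
    -- the offsets agree modulo the point
    set d := Z U - ν'⁻¹ • Z U'
    have hd : d ∈ ℓ := ℓ.sub_mem (hZ U hU) (ℓ.smul_mem _ (hZ U' hU'))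
    have hdy : T (Y U) (Y U) d = 0 := by
      have h1 := hcub U hU
      have h2 := hcub U' hU'
      rw [← hν, T.cube_smul] at h2
      simp only [Tri.smul₁, Tri.smul₂] at h2
      have h3 : ν' ^ 3 * (3 * T (Y U) (Y U) d) = 0 := by
        simp only [d, Tri.sub₃, Tri.smul₃]
        field_simp
        linear_combination ν' ^ 3 * h1 - h2
      simpa [hν0] using h3
    have hds : d ∈ Submodule.span k {S U} := by
      by_contra hnd
      have hℓ' := span_of_indep hℓ (hS2 U hU) hd (hS3 U hU) hnd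
      obtain ⟨w, hw, hwy⟩ := hYw U hU
      rw [hℓ'] at hw
      obtain ⟨s, t, rfl⟩ := Submodule.mem_span_pair.1 hw
      refine hwy ?_
      simp [hdy, T.symm₂ (Y U) (Y U) (S U), hYs U hU]
    obtain ⟨m, hm⟩ := Submodule.mem_span_singleton.1 hds
    have hUeq := eq_span_pair hU.1.1 (hS1 U hU) (hYZ U hU) (hS3 U hU) (hYZs U hU)
    have hU'eq := eq_span_pair hU'.1.1 (hS1 U' hU') (hYZ U' hU') (hS3 U' hU') (hYZs U' hU')
    refine Submodule.eq_of_le_of_finrank_eq ?_ (hU'.1.1.trans hU.1.1.symm)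
    rw [hU'eq, Submodule.span_le]
    rintro x (rfl | rfl)
    · rw [SetLike.mem_coe, ← hμ]; exact U.smul_mem _ (hS1 U hU)
    · have : Y U' + Z U' = ν' • (Y U + Z U) - (ν' * m) • S U := by
        rw [← hν, mul_smul, hm]
        simp only [d, smul_add, smul_sub, smul_inv_smul₀ hν0]
        abel
      rw [SetLike.mem_coe, this]
      exact U.sub_mem (U.smul_mem _ (hYZ U hU)) (U.smul_mem _ (hS1 U hU))
  -- the possible points
  have cases : ∀ U ∈ 𝒰, ∃ i, S U ∈ Submodule.span k {dir i} := by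
    intro U hU
    obtain ⟨x, y, hxy⟩ := Submodule.mem_span_pair.1 (hℓeq ▸ hS2 U hU)
    obtain ⟨α, β, hαβ⟩ := Submodule.mem_span_pair.1 (hWeq ▸ hY U hU)
    have h0 : detQ T e₀' e₁ (S U) = 0 := by
      have e0 := hYs U hU e₀'
      have e1 := hYs U hU e₁
      rw [← hαβ] at e0 e1
      simp [T.symm₂ e₀' (S U) e₀', T.symm₂ e₁ (S U) e₀', T.symm₂ e₀' (S U) e₁, T.symm₂ e₁ (S U) e₁,
        T.symm₁ e₁ e₀' (S U)] at e0 e1
      simp only [detQ]
      by_cases hα : α = 0
      · have hβ : β ≠ 0 := fun h => hY0 U hU (by rw [← hαβ, hα, h, zero_smul, zero_smul, add_zero])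
        rw [hα] at e0 e1
        simp [hβ] at e0 e1
        rw [e0, e1]; ring
      · have : α * (T e₀' e₀' (S U) * T e₁ e₁ (S U) - T e₀' e₁ (S U) * T e₀' e₁ (S U)) = 0 := by
          linear_combination T e₁ e₁ (S U) * e0 - T e₀' e₁ (S U) * e1
        exact (mul_eq_zero.1 this).resolve_left hα
    rw [← hxy, hD] at h0
    rcases mul_eq_zero.1 h0 with h | h
    · obtain ⟨l, h1, h2⟩ := CubicTangent.exists_smul_of_eq_zero hnz.1 h
      exact ⟨true, Submodule.mem_span_singleton.2 ⟨l, by simp only [dir, if_true]; rw [← hxy, h1, h2]; module⟩⟩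
    · obtain ⟨l, h1, h2⟩ := CubicTangent.exists_smul_of_eq_zero hnz.2 h
      exact ⟨false, Submodule.mem_span_singleton.2 ⟨l, by simp [dir]; rw [← hxy, h1, h2]; module⟩⟩
  choose! I hI using cases
  refine Set.Finite.of_finite_image (Set.toFinite (I '' 𝒰)) fun U hU U' hU' hI' => (uniq U hU U' hU' ?_).symm
  obtain ⟨m, hm⟩ := Submodule.mem_span_singleton.1 (hI U hU)
  have hm0 : m ≠ 0 := fun h => hS3 U hU (by rw [← hm, h, zero_smul])
  have := hI U' hU'
  rw [← hI'] at this
  obtain ⟨m', hm'⟩ := Submodule.mem_span_singleton.1 this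
  exact Submodule.mem_span_singleton.2 ⟨m' / m, by rw [← hm, ← hm', smul_smul, div_mul_cancel₀ _ hm0]⟩

include hsing in
/-- Two lines through a smooth point: one of them misses the double line. -/
theorem skew_of_two_lines (hNP : NoPlane T) {b : V} (hb : ∃ x, T b b x ≠ 0) {U U' : Submodule k V}
    (hU : T.IsLine U) (hU' : T.IsLine U') (hne : U ≠ U') (hbU : b ∈ U) (hbU' : b ∈ U') :
    U ⊓ ℓ = ⊥ ∨ U' ⊓ ℓ = ⊥ := by
  by_contra hc
  push Not at hc
  obtain ⟨s, hs, hs0⟩ := (Submodule.ne_bot_iff _).1 hc.1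
  obtain ⟨s', hs', hs0'⟩ := (Submodule.ne_bot_iff _).1 hc.2
  obtain ⟨x₀, hx₀⟩ := hb
  have hbℓ : b ∉ ℓ := fun h => hx₀ (hsing b h x₀)
  have hbs : b ∉ Submodule.span k {s} := fun h => hbℓ ((Submodule.span_le.2 (Set.singleton_subset_iff.2 hs.2)) h)
  have hbs' : b ∉ Submodule.span k {s'} := fun h => hbℓ ((Submodule.span_le.2 (Set.singleton_subset_iff.2 hs'.2)) h)
  by_cases hdep : s' ∈ Submodule.span k {s}
  · have h1 : s' ∈ U := (Submodule.span_le.2 (Set.singleton_subset_iff.2 hs.1)) hdep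
    exact hne ((eq_span_pair hU.1 h1 hbU hs0' hbs').trans (eq_span_pair hU'.1 hs'.1 hbU' hs0' hbs').symm)
  have hℓ' := span_of_indep hℓ hs.2 hs'.2 hs0 hdep
  refine plane_false hNP (inj_emb hs0 hdep (hℓ' ▸ hbℓ)) fun x => ?_
  rw [cube_emb, hsing s hs.2 s, hsing s' hs'.2 s', hsing s hs.2 s', tri_eq_zero hsing hs.2 hs'.2 s',
    show T b b b = 0 from hU.2 b hbU, hsing s hs.2 b, hsing s' hs'.2 b, tri_eq_zero hsing hs.2 hs'.2 b,
    show T s b b = 0 from T.eq_zero_of_cube_eq_zero U hU.2 hs.1 hbU hbU,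
    show T s' b b = 0 from T.eq_zero_of_cube_eq_zero U' hU'.2 hs'.1 hbU' hbU']
  ring

end

variable [FiniteDimensional k V] [IsAlgClosed k]

/-- Finitely many lines, or a double line. -/
theorem finite_lines_or_double (hV : finrank k V = 4) (hNP : NoPlane T)
    (hthrough : ∀ p : V, p ≠ 0 → (∀ x, T p p x = 0) → {U : Submodule k V | p ∈ U ∧ T.IsLine U}.Finite) :
    {U : Submodule k V | T.IsLine U}.Finite ∨
      ∃ ℓ : Submodule k V, finrank k ↥ℓ = 2 ∧ ∀ u ∈ ℓ, ∀ x, T u u x = 0 := by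
  classical
  by_cases hsm : T.Smooth
  · left
    rcases Set.eq_empty_or_nonempty {U : Submodule k V | T.IsLine U} with h | ⟨L, hL⟩
    · rw [h]; exact Set.finite_empty
    · exact Set.finite_of_ncard_ne_zero (by rw [Tri.ncard_lines hV hsm hL]; norm_num)
  simp only [Tri.Smooth, not_forall] at hsm
  obtain ⟨p, hp, hp0⟩ := hsm
  by_cases hdouble : ∃ ℓ : Submodule k V, finrank k ↥ℓ = 2 ∧ ∀ u ∈ ℓ, ∀ x, T u u x = 0
  · exact Or.inr hdouble
  left
  push Not at hdouble
  set Lp := {U : Submodule k V | p ∈ U ∧ T.IsLine U} with hLp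
  have hfin : Lp.Finite := hthrough p hp0 hp
  choose! xL hxL yL hyL using fun (L : Submodule k V) (hL : L ∈ Lp) => hdouble L hL.2.1
  let planes : Set (Submodule k V) :=
    Set.image2 (· ⊔ ·) Lp Lp ∪ (fun L => LinearMap.ker (T.lin (xL L) (xL L))) '' Lp
  have hplanes : planes.Finite := (hfin.image2 _ hfin).union (hfin.image _)
  set rest := {U : Submodule k V | T.IsLine U ∧ p ∉ U}
  have hrest : rest.Finite := by
    have hmaps : ∀ U ∈ rest, Submodule.span k {p} ⊔ U ∈ planes := by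
      rintro U ⟨hU, hpU⟩
      set P := Submodule.span k {p} ⊔ U with hPdef
      have hpP : p ∈ P := Submodule.mem_sup_left (Submodule.mem_span_singleton_self p)
      have hUP : U ≤ P := le_sup_right
      have hP : finrank k ↥P = 3 := by
        have := Submodule.finrank_sup_add_finrank_inf_eq (Submodule.span k {p}) U
        have hinf : Submodule.span k {p} ⊓ U = ⊥ := by
          rw [Submodule.eq_bot_iff]
          rintro x ⟨hx, hxU⟩
          obtain ⟨r, rfl⟩ := Submodule.mem_span_singleton.1 hx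
          by_contra h
          exact hpU ((Submodule.smul_mem_iff _ (fun hr => h (by rw [hr, zero_smul]))).1 hxU)
        rw [hinf, finrank_bot, finrank_span_singleton hp0, hU.1, ← hPdef] at this
        omega
      obtain ⟨u₁, hu₁, hu₁'⟩ := exists_mem_notMem_span_singleton (U := U) (by rw [hU.1]) (0 : V)
      have hu₁n : u₁ ≠ 0 := fun h => hu₁' (by rw [h]; exact zero_mem _)
      obtain ⟨u₂, hu₂, hu₂'⟩ := exists_mem_notMem_span_singleton (U := U) (by rw [hU.1]) u₁
      have hUeq := eq_span_pair hU.1 hu₁ hu₂ hu₁n hu₂'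
      obtain ⟨α, β, γ, δ, hf⟩ := CubicTangent.exists_quad_factor (T p u₁ u₁) (2 * T p u₁ u₂) (T p u₂ u₂)
      have hq : ∀ t v : k, T p (t • u₁ + v • u₂) (t • u₁ + v • u₂) = (α * t + β * v) * (γ * t + δ * v) := by
        intro t v
        rw [← hf]
        simp [T.symm₂ p u₂ u₁]
        ring
      have hnz : (α ≠ 0 ∨ β ≠ 0) ∧ (γ ≠ 0 ∨ δ ≠ 0) := by
        by_contra hcon
        have hzero : ∀ t v : k, (α * t + β * v) * (γ * t + δ * v) = 0 := fun t v => by
          rcases not_and_or.1 hcon with h | h <;> push Not at h <;> simp [h.1, h.2]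
        refine hNP P hP fun x hx => ?_
        obtain ⟨r, hr, u, hu, rfl⟩ := Submodule.mem_sup.1 hx
        obtain ⟨r, rfl⟩ := Submodule.mem_span_singleton.1 hr
        have hu0 : T p u u = 0 := by
          rw [hUeq] at hu
          obtain ⟨t, v, rfl⟩ := Submodule.mem_span_pair.1 hu
          rw [hq, hzero]
        rw [add_comm, T.cube_add_smul, hU.2 u hu, T.symm₁₃ u p p, hp, show T.cube p = 0 from hp p,
          T.symm₁₃ u u p, hu0]
        ring
      have mkline : ∀ t v : k, (t ≠ 0 ∨ v ≠ 0) → T p (t • u₁ + v • u₂) (t • u₁ + v • u₂) = 0 →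
          Submodule.span k ({p, t • u₁ + v • u₂} : Set V) ∈ Lp ∧ t • u₁ + v • u₂ ≠ 0 := by
        intro t v htv hz
        have hmem : t • u₁ + v • u₂ ∈ U := U.add_mem (U.smul_mem _ hu₁) (U.smul_mem _ hu₂)
        have hne : t • u₁ + v • u₂ ≠ 0 := fun h => by
          by_cases hv : v = 0
          · rw [hv, zero_smul, add_zero, smul_eq_zero] at h
            exact htv.elim (fun ht => (h.resolve_right hu₁n |> ht)) (fun h' => h' hv)
          · refine hu₂' (Submodule.mem_span_singleton.2 ⟨-(v⁻¹ * t), ?_⟩)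
            have : v • u₂ = -(t • u₁) := eq_neg_of_add_eq_zero_right h
            calc (-(v⁻¹ * t)) • u₁ = v⁻¹ • (-(t • u₁)) := by module
              _ = u₂ := by rw [← this, inv_smul_smul₀ hv]
        refine ⟨⟨Submodule.subset_span (by simp), finrank_span_pair hp0 fun h => ?_, fun u hu => ?_⟩, hne⟩
        · obtain ⟨r, hr⟩ := Submodule.mem_span_singleton.1 h
          refine hpU ((Submodule.smul_mem_iff _ (fun hr0 => hne (by rw [← hr, hr0, zero_smul]))).1 (hr ▸ hmem))
        · exact T.cube_eq_zero_on_span_pair (hp p) (hp _) hz (hU.2 _ hmem) u hu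
      obtain ⟨hL, hw₀⟩ := mkline β (-α) (hnz.1.symm.imp id neg_ne_zero.2) (by rw [hq]; ring)
      obtain ⟨hL', hw₁⟩ := mkline δ (-γ) (hnz.2.symm.imp id neg_ne_zero.2) (by rw [hq]; ring)
      set w := β • u₁ + (-α) • u₂ with hw
      set w' := δ • u₁ + (-γ) • u₂ with hw'
      set L := Submodule.span k ({p, w} : Set V) with hLdef
      set L' := Submodule.span k ({p, w'} : Set V)
      have hwU : w ∈ U := U.add_mem (U.smul_mem _ hu₁) (U.smul_mem _ hu₂)
      have hw'U : w' ∈ U := U.add_mem (U.smul_mem _ hu₁) (U.smul_mem _ hu₂)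
      have hLP : L ≤ P := Submodule.span_le.2 (by rintro x (rfl | rfl); exacts [hpP, hUP hwU])
      have hL'P : L' ≤ P := Submodule.span_le.2 (by rintro x (rfl | rfl); exacts [hpP, hUP hw'U])
      by_cases heq : L = L'
      · refine Or.inr ⟨L, hL, ?_⟩
        have hker := finrank_lin_ker (T := T) hV ⟨yL L, hyL L hL⟩
        refine (Submodule.eq_of_le_of_finrank_eq ?_ (hP.trans hker.symm)).symm
        -- the roots coincide
        obtain ⟨r, hr⟩ : ∃ r : k, r • w = w' := by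
          obtain ⟨c, r, hcr⟩ := Submodule.mem_span_pair.1
            (heq ▸ Submodule.subset_span (by simp) : w' ∈ L)
          refine ⟨r, ?_⟩
          have hc : c = 0 := by
            by_contra hc
            refine hpU ((Submodule.smul_mem_iff _ hc).1 ?_)
            rw [show c • p = w' - r • w by rw [← hcr]; abel]
            exact U.sub_mem hw'U (U.smul_mem _ hwU)
          rw [← hcr, hc, zero_smul, zero_add]
        have hpol : ∀ h ∈ U, T p w h = 0 := by
          intro h hh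
          rw [hUeq] at hh
          obtain ⟨t, v, rfl⟩ := Submodule.mem_span_pair.1 hh
          have hr1 : γ * β + δ * -α = 0 := by
            have h0 : (r * β - δ) • u₁ + (γ - r * α) • u₂ = 0 := by
              rw [← sub_eq_zero] at hr
              rw [← hr, hw, hw']; module
            have hv : γ - r * α = 0 := by
              by_contra hv
              refine hu₂' (Submodule.mem_span_singleton.2 ⟨-((γ - r * α)⁻¹ * (r * β - δ)), ?_⟩)
              have : (γ - r * α) • u₂ = -((r * β - δ) • u₁) := eq_neg_of_add_eq_zero_right h0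
              calc (-((γ - r * α)⁻¹ * (r * β - δ))) • u₁ = (γ - r * α)⁻¹ • (-((r * β - δ) • u₁)) := by module
                _ = u₂ := by rw [← this, inv_smul_smul₀ hv]
            rw [hv, zero_smul, add_zero, smul_eq_zero] at h0
            linear_combination β * hv + α * h0.resolve_right hu₁n
          have e1 := hq (β + t) (-α + v)
          have e2 := hq (β - t) (-α - v)
          simp [w, T.symm₂ p u₂ u₁] at e1 e2 ⊢
          linear_combination (1 / 4 : k) * e1 - (1 / 4 : k) * e2 + ((α * t + β * v) / 2) * hr1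
        intro x hx
        obtain ⟨r', hr', u, hu, rfl⟩ := Submodule.mem_sup.1 hx
        obtain ⟨r', rfl⟩ := Submodule.mem_span_singleton.1 hr'
        obtain ⟨c, d, hcd⟩ := Submodule.mem_span_pair.1 (hxL L hL)
        show T (xL L) (xL L) (r' • p + u) = 0
        have e1 : T w w p = 0 := by
          have := hq β (-α)
          rw [show T w w p = T p w w from T.symm₁₃ w w p, this]
          ring
        have e2 : T w w u = 0 := T.eq_zero_of_cube_eq_zero U hU.2 hwU hwU hu
        have e3 : T p w u = 0 := hpol u hu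
        have e4 : T p w p = 0 := by rw [T.symm₂]; exact hp w
        rw [← hcd, T.grad_comb]
        simp [hp, e1, e2, e3, e4]
      · refine Or.inl ⟨L, hL, L', hL', ?_⟩
        refine Submodule.eq_of_le_of_finrank_le (sup_le hLP hL'P) ?_
        show finrank k ↥P ≤ finrank k ↥(L ⊔ L')
        rw [hP]
        by_contra hlt
        have h1 : L = L ⊔ L' := Submodule.eq_of_le_of_finrank_le le_sup_left (by rw [hL.2.1]; omega)
        exact heq (Submodule.eq_of_le_of_finrank_eq ((le_sup_right : L' ≤ L ⊔ L').trans h1.ge)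
          (hL'.2.1.trans hL.2.1.symm)).symm
    refine Set.Finite.of_finite_image (f := fun U => Submodule.span k {p} ⊔ U)
      (hplanes.subset (Set.image_subset_iff.2 hmaps)) ?_
    rintro U ⟨hU, hpU⟩ U' ⟨hU', hpU'⟩ heq
    -- the residual line of a plane is unique
    have hdec : ∀ x ∈ U', ∃ r : k, ∃ u ∈ U, x = r • p + u := fun x hx => by
      obtain ⟨r, hr, u, hu, hxu⟩ := Submodule.mem_sup.1 (heq.ge (Submodule.mem_sup_right hx))
      obtain ⟨r, rfl⟩ := Submodule.mem_span_singleton.1 hr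
      exact ⟨r, u, hu, hxu.symm⟩
    choose! r u hu hxu using hdec
    have hru : ∀ x ∈ U', r x * T p (u x) (u x) = 0 := fun x hx => by
      have h := hU'.2 x hx
      rw [hxu x hx, add_comm, T.cube_add_smul, hU.2 _ (hu x hx), T.symm₁₃ (u x) p p, hp,
        show T.cube p = 0 from hp p, T.symm₁₃ (u x) (u x) p] at h
      have : 3 * (r x * T p (u x) (u x)) = 0 := by linear_combination h
      simpa using this
    by_cases hr0 : ∀ x ∈ U', r x = 0
    · refine (Submodule.eq_of_le_of_finrank_eq (fun x hx => ?_) (hU'.1.trans hU.1.symm)).symm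
      rw [hxu x hx, hr0 x hx, zero_smul, zero_add]
      exact hu x hx
    exfalso
    push Not at hr0
    obtain ⟨x₀, hx₀, hrx₀⟩ := hr0
    -- coordinates
    have huniq : ∀ x ∈ U', ∀ (c : k) (v : V), v ∈ U → x = c • p + v → r x = c ∧ u x = v := by
      intro x hx c v hv h
      have e : (r x - c) • p = v - u x := by
        have := (hxu x hx).symm.trans h
        rw [sub_smul, sub_eq_sub_iff_add_eq_add, this, add_comm]
      have h0 : r x - c = 0 := by
        by_contra h0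
        exact hpU ((Submodule.smul_mem_iff _ h0).1 (e ▸ U.sub_mem hv (hu x hx)))
      rw [h0, zero_smul] at e
      exact ⟨sub_eq_zero.1 h0, (sub_eq_zero.1 e.symm).symm⟩
    have hq0 : ∀ x ∈ U', T p (u x) (u x) = 0 := by
      intro x hx
      by_cases hrx : r x = 0
      · obtain ⟨a1, b1⟩ := huniq (x + x₀) (U'.add_mem hx hx₀) (r x₀) (u x + u x₀) (U.add_mem (hu x hx) (hu x₀ hx₀))
          (by conv_lhs => rw [hxu x hx, hxu x₀ hx₀, hrx]
              module)
        obtain ⟨a2, b2⟩ := huniq (x - x₀) (U'.sub_mem hx hx₀) (-r x₀) (u x - u x₀) (U.sub_mem (hu x hx) (hu x₀ hx₀))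
          (by conv_lhs => rw [hxu x hx, hxu x₀ hx₀, hrx]
              module)
        have e1 := hru _ (U'.add_mem hx hx₀)
        have e2 := hru _ (U'.sub_mem hx hx₀)
        have e3 := hru _ hx₀
        rw [a1, b1] at e1
        rw [a2, b2] at e2
        have f1 := (mul_eq_zero.1 e1).resolve_left hrx₀
        have f2 := (mul_eq_zero.1 e2).resolve_left (neg_ne_zero.2 hrx₀)
        have f3 := (mul_eq_zero.1 e3).resolve_left hrx₀
        simp [T.symm₂ p (u x₀) (u x)] at f1 f2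
        linear_combination (1 / 2 : k) * f1 + (1 / 2 : k) * f2 - f3
      · exact (mul_eq_zero.1 (hru x hx)).resolve_left hrx
    set P := Submodule.span k {p} ⊔ U
    have hle : Submodule.span k {p} ⊔ U' ≤ P := heq.ge
    refine hNP P ?_ fun x hx => ?_
    · have hinf : Submodule.span k {p} ⊓ U = ⊥ := by
        rw [Submodule.eq_bot_iff]
        rintro x ⟨hx, hxU⟩
        obtain ⟨c, rfl⟩ := Submodule.mem_span_singleton.1 hx
        by_contra h
        exact hpU ((Submodule.smul_mem_iff _ (fun hc => h (by rw [hc, zero_smul]))).1 hxU)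
      have := Submodule.finrank_sup_add_finrank_inf_eq (Submodule.span k {p}) U
      rw [hinf, finrank_bot, finrank_span_singleton hp0, hU.1] at this
      omega
    · obtain ⟨c, hc, x', hx', rfl⟩ := Submodule.mem_sup.1 (heq.le hx)
      obtain ⟨c, rfl⟩ := Submodule.mem_span_singleton.1 hc
      rw [hxu x' hx', ← add_assoc, ← add_smul, add_comm, T.cube_add_smul, hU.2 _ (hu x' hx'),
        T.symm₁₃ (u x') p p, hp, show T.cube p = 0 from hp p, T.symm₁₃ (u x') (u x') p, hq0 x' hx']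
      ring
  refine (hfin.union hrest).subset fun U hU => ?_
  by_cases h : p ∈ U
  · exact Or.inl ⟨h, hU⟩
  · exact Or.inr ⟨hU, h⟩

/-- The points with split tangent section lie on finitely many lines. -/
theorem exists_finite_cover (hV : finrank k V = 4) (hNP : NoPlane T) (hNC : NotCone T)
    (hthrough : ∀ p : V, p ≠ 0 → (∀ x, T p p x = 0) → {U : Submodule k V | p ∈ U ∧ T.IsLine U}.Finite) :
    ∃ 𝓛 : Set (Submodule k V), 𝓛.Finite ∧ (∀ U ∈ 𝓛, T.IsLine U) ∧ ∀ b, TP T b → ∃ U ∈ 𝓛, b ∈ U := by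
  rcases finite_lines_or_double hV hNP hthrough with hfin | ⟨ℓ, hℓ, hsing⟩
  · refine ⟨_, hfin, fun U hU => hU, fun b hb => ?_⟩
    rcases hb.lines hV hNP with ⟨U, U', hU, -, -, hbU, -⟩ | ⟨U, hU, hbU, -⟩
    · exact ⟨U, hU, hbU⟩
    · exact ⟨U, hU, hbU⟩
  · refine ⟨{U : Submodule k V | T.IsLine U ∧ U ⊓ ℓ = ⊥} ∪ _, Set.Finite.union ?_
      (finite_tangent_lines hV hℓ hsing hNP hNC), ?_, fun b hb => ?_⟩
    · refine Set.Subsingleton.finite fun U hU U' hU' => ?_
      exact skew_unique hV hℓ hsing hNP hNC hU.1 hU'.1 hU.2 hU'.2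
    · rintro U (hU | hU)
      exacts [hU.1, hU.1]
    · rcases hb.lines hV hNP with ⟨U, U', hU, hU', hne, hbU, hbU'⟩ | ⟨U, hU, hbU, hle, htan⟩
      · rcases skew_of_two_lines hV hℓ hsing hNP hb.2.1 hU hU' hne hbU hbU' with h | h
        · exact ⟨U, Or.inl ⟨hU, h⟩, hbU⟩
        · exact ⟨U', Or.inl ⟨hU', h⟩, hbU'⟩
      · by_cases h : U ⊓ ℓ = ⊥
        · exact ⟨U, Or.inl ⟨hU, h⟩, hbU⟩
        · exact ⟨U, Or.inr ⟨hU, h, b, hbU, hb.2.1, hle, htan⟩, hbU⟩

end GrothLib.CubicTP12
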