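import Groth.Agent.Lib.CubicTP12.Finite

/-!
# A tangent plane contains finitely many points with split tangent section
-/

set_option autoImplicit false
set_option linter.all false
set_option maxHeartbeats 1000000

universe u v

open Module GrothLib.CubicForm Matrix

namespace GrothLib.CubicTP12

variable {k : Type u} [Field k] [CharZero k] {V : Type v} [AddCommGroup V] [Module k V] {T : Tri k V}
  [FiniteDimensional k V] [IsAlgClosed k]

omit [CharZero k] [FiniteDimensional k V] [IsAlgClosed k] in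
theorem exists_ne_zero {U : Submodule k V} (hU : finrank k ↥U = 1) : ∃ u ∈ U, u ≠ 0 :=
  (Submodule.ne_bot_iff _).1 fun h => by rw [h, finrank_bot] at hU; exact zero_ne_one hU

/-- A quadratic function on a plane with infinitely many zero directions vanishes. -/
theorem finite_zero_dirs {a l : V} (A B C : k) (hne : A ≠ 0 ∨ B ≠ 0 ∨ C ≠ 0) :
    {U : Submodule k V | finrank k ↥U = 1 ∧ U ≤ Submodule.span k {a, l} ∧
      ∀ s t : k, s • a + t • l ∈ U → A * s ^ 2 + B * (s * t) + C * t ^ 2 = 0}.Finite := by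
  classical
  obtain ⟨p, q, r, s₀, hf⟩ := CubicTangent.exists_quad_factor A B C
  have hnz : (p ≠ 0 ∨ q ≠ 0) ∧ (r ≠ 0 ∨ s₀ ≠ 0) := by
    by_contra hcon
    have hzero : ∀ x y : k, (p * x + q * y) * (r * x + s₀ * y) = 0 := fun x y => by
      rcases not_and_or.1 hcon with h | h <;> push Not at h <;> simp [h.1, h.2]
    have h10 := hf 1 0
    have h01 := hf 0 1
    have h11 := hf 1 1
    rw [hzero] at h10 h01 h11
    rcases hne with h | h | h
    · exact h (by linear_combination h10)
    · exact h (by linear_combination h11 - h10 - h01)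
    · exact h (by linear_combination h01)
  let U₁ : Submodule k V := Submodule.span k {q • a + (-p) • l}
  let U₂ : Submodule k V := Submodule.span k {s₀ • a + (-r) • l}
  refine (Set.toFinite ({U₁, U₂} : Set (Submodule k V))).subset ?_
  rintro U ⟨hU, hle, hz⟩
  obtain ⟨u, hu, hu'⟩ := exists_ne_zero hU
  obtain ⟨s, t, hst⟩ := Submodule.mem_span_pair.1 (hle hu)
  have h0 := hz s t (hst ▸ hu)
  rw [hf] at h0
  have hUspan : U = Submodule.span k {u} :=
    (Submodule.eq_of_le_of_finrank_eq (Submodule.span_le.2 (Set.singleton_subset_iff.2 hu))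
      (by rw [finrank_span_singleton hu', hU])).symm
  rcases mul_eq_zero.1 h0 with h | h
  · obtain ⟨m, h1, h2⟩ := CubicTangent.exists_smul_of_eq_zero hnz.1 h
    left
    rw [hUspan]
    have hm : m ≠ 0 := fun hm => hu' (by rw [← hst, h1, h2, hm]; simp)
    rw [show u = m • (q • a + (-p) • l) by rw [← hst, h1, h2]; module]
    exact Submodule.span_singleton_smul_eq hm.isUnit _
  · obtain ⟨m, h1, h2⟩ := CubicTangent.exists_smul_of_eq_zero hnz.2 h
    right
    rw [Set.mem_singleton_iff, hUspan]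
    have hm : m ≠ 0 := fun hm => hu' (by rw [← hst, h1, h2, hm]; simp)
    rw [show u = m • (s₀ • a + (-r) • l) by rw [← hst, h1, h2]; module]
    exact Submodule.span_singleton_smul_eq hm.isUnit _

/-- A line of the tangent plane at a point with non-split section carries finitely many split points. -/
theorem finite_TP_on_line (hV : finrank k V = 4) {a : V} (haF : T.cube a = 0) (hga : ∃ x, T a a x ≠ 0)
    (ha : ¬ TP T a) {L : Submodule k V} (hL : T.IsLine L) (hLH : L ≤ LinearMap.ker (T.lin a a)) :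
    {U : Submodule k V | finrank k ↥U = 1 ∧ U ≤ L ∧ ∀ b ∈ U, b ≠ 0 → TP T b}.Finite := by
  classical
  set H := LinearMap.ker (T.lin a a) with hHdef
  have hH : finrank k ↥H = 3 := finrank_lin_ker hV hga
  have haH : a ∈ H := haF
  have hns : ¬ Prod3 T H := fun h => ha ⟨haF, hga, h⟩
  have ha0 : a ≠ 0 := fun h => by
    obtain ⟨x, hx⟩ := hga
    exact hx (by rw [h, Tri.zero₁])
  have haL : a ∈ L := by
    by_contra h
    exact hns (prod3_of_line_not_mem hH haH (fun x hx => hx) hL hLH h)
  obtain ⟨l, hl, hla⟩ := exists_mem_notMem_span_singleton (U := L) (by rw [hL.1]) a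
  have hLeq := eq_span_pair hL.1 haL hl ha0 hla
  obtain ⟨c, hc, hcL⟩ : ∃ c ∈ H, c ∉ L := by
    by_contra! h
    have := Submodule.finrank_mono (show H ≤ L from h)
    rw [hH, hL.1] at this
    omega
  obtain ⟨d, hd⟩ : ∃ d, T a a d ≠ 0 := hga
  have hdH : d ∉ H := hd
  have hline : Tri.Line T a l := by
    have hz := fun x y z hx hy hz => T.eq_zero_of_cube_eq_zero L hL.2 (a := x) (b := y) (c := z) hx hy hz
    exact ⟨hz a a a haL haL haL, hz a a l haL haL hl, hz a l l haL hl hl, hz l l l hl hl hl⟩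
  have hinjH := inj_emb (c := c) ha0 hla (hLeq ▸ hcL)
  have hdisc : T.disc a l c ≠ 0 := fun h => by
    have := prod3_of_disc hline hinjH h
    rw [range_emb hinjH hH haH (hLH hl) hc] at this
    exact hns this
  set D := T.discPoly a l c d
  have hD0 : D ≠ 0 := fun h => hdisc (by
    have := Tri.eval_discPoly (T := T) a l c d 0
    rw [zero_smul, add_zero] at this
    rw [← this]
    show D.eval 0 = 0
    rw [h, Polynomial.eval_zero])
  -- the candidate planes
  let vecs : Set V := insert d ((fun t : k => c + t • d) '' {t | D.IsRoot t})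
  have hvecs : vecs.Finite := ((Polynomial.finite_setOf_isRoot hD0).image _).insert _
  let bad : V → Set (Submodule k V) := fun w => {U | finrank k ↥U = 1 ∧ U ≤ L ∧ T a a w ≠ 0 ∧
      ∀ u ∈ U, T u u w = 0}
  have hbad : ∀ w, (bad w).Finite := by
    intro w
    by_cases hw : T a a w = 0
    · convert Set.finite_empty
      ext U
      simp [bad, hw]
    · refine (finite_zero_dirs (a := a) (l := l) (T a a w) (2 * T a l w) (T l l w) (Or.inl hw)).subset ?_
      rintro U ⟨hU, hle, -, hz⟩
      refine ⟨hU, hLeq ▸ hle, fun s t hst => ?_⟩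
      have := hz _ hst
      rw [T.grad_comb] at this
      linear_combination this
  refine (hvecs.biUnion fun w _ => hbad w).subset ?_
  rintro U ⟨hU, hle, hTP⟩
  obtain ⟨b, hb, hb'⟩ := exists_ne_zero hU
  obtain ⟨hbF, hgb, hprod⟩ := hTP b hb hb'
  set P := LinearMap.ker (T.lin b b) with hPdef
  have hP : finrank k ↥P = 3 := finrank_lin_ker hV hgb
  have hLP : L ≤ P := fun u hu => T.eq_zero_of_cube_eq_zero L hL.2 (hle hb) (hle hb) hu
  have hUspan : U = Submodule.span k {b} :=
    (Submodule.eq_of_le_of_finrank_eq (Submodule.span_le.2 (Set.singleton_subset_iff.2 hb))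
      (by rw [finrank_span_singleton hb', hU])).symm
  have hPH : P ≠ H := fun h => hns (h ▸ hprod)
  -- a vector of the plane off `H`
  obtain ⟨x, hx, hxH⟩ : ∃ x ∈ P, x ∉ H := by
    by_contra! h
    exact hPH (Submodule.eq_of_le_of_finrank_eq h (hP.trans hH.symm))
  have hx' : T a a x ≠ 0 := hxH
  have haP : a ∈ P := hLP haL
  obtain ⟨κ, hκ⟩ : ∃ κ : k, κ = T a a x / T a a d := ⟨_, rfl⟩
  have hxd : x - κ • d ∈ H := by
    show T a a (x - κ • d) = 0
    rw [Tri.sub₃, Tri.smul₃, hκ, div_mul_cancel₀ _ hd, sub_self]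
  obtain ⟨y, hy⟩ : x - κ • d ∈ LinearMap.range (emb (k := k) a l c) := by
    rw [range_emb hinjH hH haH (hLH hl) hc]; exact hxd
  rw [emb_apply] at hy
  have hκ0 : κ ≠ 0 := by rw [hκ]; exact div_ne_zero hx' hd
  obtain ⟨w, hwP, hw, hwv⟩ : ∃ w ∈ P, T a a w ≠ 0 ∧ w ∈ vecs := by
    by_cases hy2 : y 2 = 0
    · refine ⟨d, ?_, hd, Set.mem_insert _ _⟩
      have : d = κ⁻¹ • (x - (y 0 • a + y 1 • l)) := by
        rw [hy2, zero_smul, add_zero] at hy
        rw [hy, sub_sub_cancel, inv_smul_smul₀ hκ0]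
      rw [this]
      exact P.smul_mem _ (P.sub_mem hx (P.add_mem (P.smul_mem _ haP) (P.smul_mem _ (hLP hl))))
    · have hw : c + (κ / y 2) • d = (y 2)⁻¹ • (x - (y 0 • a + y 1 • l)) := by
        have : x - (y 0 • a + y 1 • l) = y 2 • c + κ • d := by
          rw [eq_sub_iff_add_eq] at hy
          rw [← hy]; abel
        rw [this, smul_add, inv_smul_smul₀ hy2, smul_smul]
        congr 1
        rw [div_eq_mul_inv, mul_comm]
      have hwP : c + (κ / y 2) • d ∈ P := by
        rw [hw]
        exact P.smul_mem _ (P.sub_mem hx (P.add_mem (P.smul_mem _ haP) (P.smul_mem _ (hLP hl))))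
      refine ⟨_, hwP, ?_, Set.mem_insert_of_mem _ ⟨κ / y 2, ?_, rfl⟩⟩
      · rw [Tri.add₃, Tri.smul₃, show T a a c = 0 from hc, zero_add]
        exact mul_ne_zero (div_ne_zero hκ0 hy2) hd
      · show D.eval _ = 0
        rw [Tri.eval_discPoly]
        exact disc_of_prod3 hline haP (hLP hl) hwP hprod
  refine Set.mem_biUnion hwv ⟨hU, hle, hw, fun u hu => ?_⟩
  rw [hUspan] at hu
  obtain ⟨m, rfl⟩ := Submodule.mem_span_singleton.1 hu
  rw [Tri.smul₁, Tri.smul₂, show T b b w = 0 from hwP, mul_zero, mul_zero]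

/-- The main finiteness statement. -/
theorem finite_TP_in_tangentPlane (hV : finrank k V = 4) (hNP : NoPlane T) (hNC : NotCone T)
    (hthrough : ∀ p : V, p ≠ 0 → (∀ x, T p p x = 0) → {U : Submodule k V | p ∈ U ∧ T.IsLine U}.Finite)
    {a : V} (haF : T.cube a = 0) (hga : ∃ x, T a a x ≠ 0) (ha : ¬ TP T a) :
    {U : Submodule k V | finrank k ↥U = 1 ∧ U ≤ LinearMap.ker (T.lin a a) ∧ ∀ b ∈ U, b ≠ 0 → TP T b}.Finite := by
  classical
  obtain ⟨𝓛, hfin, hlines, hcov⟩ := exists_finite_cover hV hNP hNC hthrough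
  set H := LinearMap.ker (T.lin a a)
  let piece : Submodule k V → Set (Submodule k V) := fun L =>
    {U | finrank k ↥U = 1 ∧ U ≤ H ⊓ L ∧ ∀ b ∈ U, b ≠ 0 → TP T b}
  have hpiece : ∀ L ∈ 𝓛, (piece L).Finite := by
    intro L hL
    by_cases hLH : L ≤ H
    · refine (finite_TP_on_line hV haF hga ha (hlines L hL) hLH).subset ?_
      rintro U ⟨hU, hle, h⟩
      exact ⟨hU, hle.trans inf_le_right, h⟩
    · refine (Set.finite_singleton (H ⊓ L)).subset ?_
      rintro U ⟨hU, hle, -⟩
      refine Submodule.eq_of_le_of_finrank_le hle ?_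
      have h1 : finrank k ↥(H ⊓ L) < finrank k ↥L := Submodule.finrank_lt_finrank_of_lt
        (lt_of_le_of_ne inf_le_right fun h => hLH (h.ge.trans inf_le_left))
      rw [(hlines L hL).1] at h1
      omega
  refine (hfin.biUnion hpiece).subset ?_
  rintro U ⟨hU, hle, hTP⟩
  obtain ⟨b, hb, hb'⟩ := exists_ne_zero hU
  obtain ⟨L, hL, hbL⟩ := hcov b (hTP b hb hb')
  have hUspan : U = Submodule.span k {b} :=
    (Submodule.eq_of_le_of_finrank_eq (Submodule.span_le.2 (Set.singleton_subset_iff.2 hb))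
      (by rw [finrank_span_singleton hb', hU])).symm
  refine Set.mem_biUnion hL ⟨hU, le_inf hle ?_, hTP⟩
  rw [hUspan]
  exact Submodule.span_le.2 (Set.singleton_subset_iff.2 hbL)

end GrothLib.CubicTP12
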