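import Groth.Agent.Lib.CubicTP12.OnLine

/-!
# The parametrisation of a cubic from a singular point of a section
-/

set_option autoImplicit false
set_option linter.all false
set_option maxHeartbeats 1000000

universe u v

open Module GrothLib.CubicForm Matrix

namespace GrothLib.CubicTP12

variable {k : Type u} [Field k] {V : Type v} [AddCommGroup V] [Module k V] (T : Tri k V)

/-- The residual point of the line through `a` in direction `v`. -/
def resid (a v : V) : V := T.cube v • a + (-(3 * T a v v)) • v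

variable {T}

theorem cube_resid {a v : V} (ha : T.cube a = 0) (hav : T a a v = 0) : T.cube (resid T a v) = 0 := by
  rw [resid, T.cube_comb, ha, hav]
  ring

theorem grad_resid_self {a v : V} (ha : T.cube a = 0) (hav : T a a v = 0) :
    T (resid T a v) (resid T a v) a = 9 * T a v v ^ 3 := by
  rw [resid, T.grad_comb, show T a a a = 0 from ha, show T a v a = 0 from (T.symm₂ a v a).trans hav,
    show T v v a = T a v v from T.symm₁₃ v v a]
  ring

variable [CharZero k] [FiniteDimensional k V] [IsAlgClosed k]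

section Singular

variable {a : V} (hsing : ∀ x, T a a x = 0)

include hsing in
theorem avoid_space (hV : finrank k V = 4) (hNP : NoPlane T) (hNC : NotCone T) (ha : a ≠ 0)
    {φ : V →ₗ[k] k} (hφ : φ ≠ 0) : ∃ v, φ (resid T a v) ≠ 0 := by
  obtain ⟨x₀, hx₀⟩ : ∃ x, φ x ≠ 0 := by
    by_contra! h; exact hφ (LinearMap.ext h)
  by_contra! hall
  have hid : ∀ v, T.cube v * φ a = 3 * T a v v * φ v := fun v => by
    have := hall v
    rw [resid, map_add, map_smul, map_smul, smul_eq_mul, smul_eq_mul] at this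
    linear_combination this
  by_cases hφa : φ a = 0
  · refine ha (hNC a fun x => ?_)
    have hz : ∀ v, φ v ≠ 0 → T a v v = 0 := fun v hv => by
      have := hid v
      rw [hφa, mul_zero] at this
      simpa [hv] using this.symm
    by_cases hx : φ x = 0
    · have e1 := hz (x + x₀) (by simpa [hx] using hx₀)
      have e2 := hz (x - x₀) (by simpa [hx] using hx₀)
      have e3 := hz x₀ hx₀
      simp [T.symm₂ a x₀ x] at e1 e2
      linear_combination (1 / 2 : k) * e1 + (1 / 2 : k) * e2 - e3
    · exact hz x hx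
  · refine hNP _ (finrank_ker hV ⟨x₀, hx₀⟩) fun x hx => ?_
    have := hid x
    rw [LinearMap.mem_ker.1 hx, mul_zero] at this
    exact (mul_eq_zero.1 this).resolve_right hφa

end Singular

section Plane

variable {a : V} (hV : finrank k V = 4) (haF : T.cube a = 0) (hga : ∃ x, T a a x ≠ 0) (ha : ¬ TP T a)

include hV haF hga

theorem exists_frame : ∃ u w, Function.Injective (emb (k := k) a u w) ∧
    LinearMap.range (emb (k := k) a u w) = LinearMap.ker (T.lin a a) := by
  set P := LinearMap.ker (T.lin a a)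
  have hP : finrank k ↥P = 3 := finrank_lin_ker hV hga
  have ha0 : a ≠ 0 := fun h => by
    obtain ⟨x, hx⟩ := hga
    exact hx (by rw [h, Tri.zero₁])
  obtain ⟨u, hu, hua⟩ := exists_mem_notMem_span_singleton (U := P) (by omega) a
  obtain ⟨w, hw, hwP⟩ : ∃ w ∈ P, w ∉ Submodule.span k ({a, u} : Set V) := by
    by_contra! h
    have h1 := Submodule.finrank_mono (show P ≤ Submodule.span k ({a, u} : Set V) from h)
    rw [hP, finrank_span_pair ha0 hua] at h1
    omega
  exact ⟨u, w, inj_emb ha0 hua hwP, range_emb (inj_emb ha0 hua hwP) hP haF hu hw⟩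

omit hV hga in
theorem quad_emb {u w : V} (hu : T a a u = 0) (hw : T a a w = 0) (x : Fin 3 → k) :
    T a (emb a u w x) (emb a u w x) = x 1 ^ 2 * T a u u + 2 * x 1 * x 2 * T a u w + x 2 ^ 2 * T a w w := by
  have h0 : T a a a = 0 := haF
  simp [emb_apply, h0, hu, hw, T.symm₂ a u a, T.symm₂ a w a, T.symm₂ a w u]
  ring

include ha in
theorem avoid_plane {φ : V →ₗ[k] k} (hφ : ∃ x ∈ LinearMap.ker (T.lin a a), φ x ≠ 0) :
    ∃ v ∈ LinearMap.ker (T.lin a a), φ (resid T a v) ≠ 0 := by
  obtain ⟨u, w, hinj, hrange⟩ := exists_frame hV haF hga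
  set e := emb (k := k) a u w
  have hmem : ∀ x, e x ∈ LinearMap.ker (T.lin a a) := fun x => hrange ▸ LinearMap.mem_range_self e x
  have hu : T a a u = 0 := by simpa [e, emb_apply] using hmem ![0, 1, 0]
  have hw : T a a w = 0 := by simpa [e, emb_apply] using hmem ![0, 0, 1]
  by_contra! hall
  have hid : ∀ x, T.cube (e x) * φ a = 3 * T a (e x) (e x) * φ (e x) := fun x => by
    have := hall (e x) (hmem x)
    rw [resid, map_add, map_smul, map_smul, smul_eq_mul, smul_eq_mul] at this
    linear_combination this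
  obtain ⟨p, q, r, s, hf⟩ := CubicTangent.exists_quad_factor (T a u u) (2 * T a u w) (T a w w)
  let f : (Fin 3 → k) →ₗ[k] k := p • LinearMap.proj 1 + q • LinearMap.proj 2
  let g : (Fin 3 → k) →ₗ[k] k := r • LinearMap.proj 1 + s • LinearMap.proj 2
  have hQ : ∀ x, T a (e x) (e x) = f x * g x := fun x => by
    rw [quad_emb haF hu hw]
    simp only [f, g, LinearMap.add_apply, LinearMap.smul_apply, LinearMap.proj_apply, smul_eq_mul, ← hf]
    ring
  have hnp : ∀ f₁ f₂ f₃ : (Fin 3 → k) →ₗ[k] k, (∀ x, T.cube (e x) = f₁ x * f₂ x * f₃ x) → False :=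
    fun f₁ f₂ f₃ h => ha ⟨haF, hga, hrange ▸ prod3_of_coord hinj h⟩
  by_cases hφa : φ a = 0
  · have hQ0 : ∀ x, T a (e x) (e x) = 0 := by
      rcases three_factor (f := f) (g := g) (h := φ ∘ₗ e) (U := ⊤) (fun x _ => by
        have := hid x
        rw [hφa, mul_zero, hQ] at this
        simp only [LinearMap.comp_apply]
        linear_combination -(1 / 3 : k) * this) with h | h | h
      · intro x; rw [hQ, h x trivial, zero_mul]
      · intro x; rw [hQ, h x trivial, mul_zero]
      · obtain ⟨z, hz, hzφ⟩ := hφ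
        rw [← hrange] at hz
        obtain ⟨x, rfl⟩ := hz
        exact absurd (h x trivial) hzφ
    have c1 : T a u u = 0 := by simpa [e, emb_apply] using hQ0 ![0, 1, 0]
    have c2 : T a w w = 0 := by simpa [e, emb_apply] using hQ0 ![0, 0, 1]
    have c3 : T a u w = 0 := by
      have := hQ0 ![0, 1, 1]
      rw [quad_emb haF hu hw] at this
      simpa [c1, c2] using this
    obtain ⟨A₁, A₂, A₃, A₄, A₅, A₆, hA⟩ :=
      CubicTangent.exists_cubic_factor (T.cube u) (3 * T u u w) (3 * T u w w) (T.cube w)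
    refine hnp (A₁ • LinearMap.proj 1 + A₂ • LinearMap.proj 2) (A₃ • LinearMap.proj 1 + A₄ • LinearMap.proj 2)
      (A₅ • LinearMap.proj 1 + A₆ • LinearMap.proj 2) fun x => ?_
    simp only [LinearMap.add_apply, LinearMap.smul_apply, LinearMap.proj_apply, smul_eq_mul, ← hA]
    rw [cube_emb, show T a a a = 0 from haF, hu, hw, c1, c2, c3]
    simp only [Tri.cube]
    ring
  · refine hnp f g ((3 * (φ a)⁻¹) • φ ∘ₗ e) fun x => ?_
    have := hid x
    rw [hQ] at this
    simp only [LinearMap.smul_apply, LinearMap.comp_apply, smul_eq_mul]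
    field_simp
    linear_combination this

include ha in
theorem exists_quad_ne_zero : ∃ v ∈ LinearMap.ker (T.lin a a), T a v v ≠ 0 := by
  obtain ⟨u, w, hinj, hrange⟩ := exists_frame hV haF hga
  set e := emb (k := k) a u w
  have hmem : ∀ x, e x ∈ LinearMap.ker (T.lin a a) := fun x => hrange ▸ LinearMap.mem_range_self e x
  have hu : T a a u = 0 := by simpa [e, emb_apply] using hmem ![0, 1, 0]
  have hw : T a a w = 0 := by simpa [e, emb_apply] using hmem ![0, 0, 1]
  by_contra! hQ0
  have c1 : T a u u = 0 := by simpa [e, emb_apply] using hQ0 _ (hmem ![0, 1, 0])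
  have c2 : T a w w = 0 := by simpa [e, emb_apply] using hQ0 _ (hmem ![0, 0, 1])
  have c3 : T a u w = 0 := by
    have := hQ0 _ (hmem ![0, 1, 1])
    rw [quad_emb haF hu hw] at this
    simpa [c1, c2] using this
  obtain ⟨A₁, A₂, A₃, A₄, A₅, A₆, hA⟩ :=
    CubicTangent.exists_cubic_factor (T.cube u) (3 * T u u w) (3 * T u w w) (T.cube w)
  refine ha ⟨haF, hga, hrange ▸ prod3_of_coord hinj (f := A₁ • LinearMap.proj 1 + A₂ • LinearMap.proj 2)
    (g := A₃ • LinearMap.proj 1 + A₄ • LinearMap.proj 2) (h := A₅ • LinearMap.proj 1 + A₆ • LinearMap.proj 2)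
    fun x => ?_⟩
  simp only [LinearMap.add_apply, LinearMap.smul_apply, LinearMap.proj_apply, smul_eq_mul, ← hA]
  rw [cube_emb, show T a a a = 0 from haF, hu, hw, c1, c2, c3]
  simp only [Tri.cube]
  ring

include ha in
/-- The tangent planes along the parametrised curve are not constant. -/
theorem avoid_tangent (ψ : V →ₗ[k] k) :
    ∃ v ∈ LinearMap.ker (T.lin a a), ∃ h, ψ h = 0 ∧ T (resid T a v) (resid T a v) h ≠ 0 := by
  by_cases hψa : ψ a = 0
  · obtain ⟨v, hv, hv'⟩ := exists_quad_ne_zero hV haF hga ha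
    refine ⟨v, hv, a, hψa, ?_⟩
    rw [grad_resid_self haF hv]
    exact mul_ne_zero (by norm_num) (pow_ne_zero _ hv')
  obtain ⟨d, hd⟩ := id hga
  set h := d - (ψ d / ψ a) • a with hh
  have hψh : ψ h = 0 := by rw [hh, map_sub, map_smul, smul_eq_mul, div_mul_cancel₀ _ hψa, sub_self]
  have hgh : T a a h ≠ 0 := by simpa [hh, show T a a a = 0 from haF] using hd
  by_cases hv0 : ∃ v ∈ LinearMap.ker (T.lin a a), T a v v = 0 ∧ T.cube v ≠ 0
  · obtain ⟨v, hv, hQ, hC⟩ := hv0
    refine ⟨v, hv, h, hψh, ?_⟩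
    rw [resid, hQ, mul_zero, neg_zero, zero_smul, add_zero, Tri.smul₁, Tri.smul₂, ← mul_assoc]
    exact mul_ne_zero (mul_ne_zero hC hC) hgh
  push Not at hv0
  obtain ⟨u, w, hinj, hrange⟩ := exists_frame hV haF hga
  set e := emb (k := k) a u w
  set P := LinearMap.ker (T.lin a a)
  have hP : finrank k ↥P = 3 := finrank_lin_ker hV hga
  have hmem : ∀ x, e x ∈ P := fun x => hrange ▸ LinearMap.mem_range_self e x
  have hu : T a a u = 0 := by simpa [e, emb_apply, P] using hmem ![0, 1, 0]
  have hw : T a a w = 0 := by simpa [e, emb_apply, P] using hmem ![0, 0, 1]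
  have haP : a ∈ P := haF
  have ha0 : a ≠ 0 := fun h => hd (by rw [h, Tri.zero₁])
  obtain ⟨p, q, r, s, hf⟩ := CubicTangent.exists_quad_factor (T a u u) (2 * T a u w) (T a w w)
  have hQ : ∀ y z : k, T a (e ![0, y, z]) (e ![0, y, z]) = (p * y + q * z) * (r * y + s * z) := fun y z => by
    rw [quad_emb haF hu hw, ← hf]
    simp
    ring
  have hnz : (p ≠ 0 ∨ q ≠ 0) ∧ (r ≠ 0 ∨ s ≠ 0) := by
    by_contra hcon
    have hzero : ∀ y z : k, (p * y + q * z) * (r * y + s * z) = 0 := fun y z => by
      rcases not_and_or.1 hcon with h | h <;> push Not at h <;> simp [h.1, h.2]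
    obtain ⟨v, hv, hv'⟩ := exists_quad_ne_zero hV haF hga ha
    replace hv : v ∈ LinearMap.range e := hrange.symm ▸ hv
    obtain ⟨x, rfl⟩ := hv
    refine hv' ?_
    rw [quad_emb haF hu hw]
    have h1 := hf (x 1) (x 2)
    rw [hzero] at h1
    linear_combination h1
  -- the two roots give lines of the section
  have root : ∀ y z : k, (y ≠ 0 ∨ z ≠ 0) → T a (e ![0, y, z]) (e ![0, y, z]) = 0 →
      T.IsLine (Submodule.span k {a, e ![0, y, z]}) ∧ Submodule.span k {a, e ![0, y, z]} ≤ P := by
    intro y z hyz h0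
    refine ⟨⟨finrank_span_pair ha0 fun hm => ?_, fun x hx => ?_⟩, ?_⟩
    · obtain ⟨c, hc⟩ := Submodule.mem_span_singleton.1 hm
      have : e ![c, 0, 0] = e ![0, y, z] := by rw [← hc]; simp [e, emb_apply]
      have h' := hinj this
      rcases hyz with hy | hz
      · exact hy (by simpa using (congrFun h' 1).symm)
      · exact hz (by simpa using (congrFun h' 2).symm)
    · exact T.cube_eq_zero_on_span_pair haF (hmem _) h0 (hv0 _ (hmem _) h0) x hx
    · exact Submodule.span_le.2 (by rintro x (rfl | rfl); exacts [haP, hmem _])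
  obtain ⟨hl₀, hl₀P⟩ := root q (-p) (hnz.1.symm.imp id neg_ne_zero.2) (by rw [hQ]; ring)
  obtain ⟨hl₁, hl₁P⟩ := root s (-r) (hnz.2.symm.imp id neg_ne_zero.2) (by rw [hQ]; ring)
  set v₀ := e ![0, q, -p] with hv₀def
  have hsame : Submodule.span k ({a, v₀} : Set V) = Submodule.span k {a, e ![0, s, -r]} := by
    by_contra hne
    exact ha ⟨haF, hga, prod3_of_two_lines ha0 hP haP (fun x hx => hx) hl₀ hl₁ hne hl₀P hl₁P⟩
  -- complete `a, v₀` to a frame
  obtain ⟨z, hz, hzL⟩ : ∃ z ∈ P, z ∉ Submodule.span k ({a, v₀} : Set V) := by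
    by_contra! h
    have := Submodule.finrank_mono (show P ≤ Submodule.span k ({a, v₀} : Set V) from h)
    rw [hP, hl₀.1] at this
    omega
  have hz' := fun x y w hx hy hw => T.eq_zero_of_cube_eq_zero _ hl₀.2 (a := x) (b := y) (c := w) hx hy hw
  have ha₀ : a ∈ Submodule.span k ({a, v₀} : Set V) := Submodule.subset_span (by simp)
  have hv₀ : v₀ ∈ Submodule.span k ({a, v₀} : Set V) := Submodule.subset_span (by simp)
  have hav : T a v₀ z = 0 := by
    obtain ⟨c₁, c, hcc⟩ := Submodule.mem_span_pair.1 (hsame ▸ Submodule.subset_span (by simp) : e ![0, s, -r] ∈ Submodule.span k ({a, v₀} : Set V))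
    have hcx : e ![c₁, c * q, c * -p] = e ![0, s, -r] := by
      rw [← hcc]; simp [e, v₀, emb_apply]; module
    have h' := hinj hcx
    have h1 : c * q = s := by simpa using congrFun h' 1
    have h2 : c * -p = -r := by simpa using congrFun h' 2
    obtain ⟨x, rfl⟩ : z ∈ LinearMap.range e := hrange ▸ hz
    have c1 := hf 1 0
    have c2 := hf 0 1
    have c3 := hf 1 1
    have ev : T a v₀ (e x) = (q * x 1) * T a u u + (q * x 2 - p * x 1) * T a u w + (-p * x 2) * T a w w := by
      simp [v₀, e, emb_apply, show T a a a = 0 from haF, hu, hw, T.symm₂ a u a, T.symm₂ a w a, T.symm₂ a w u]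
      ring
    rw [ev]
    have d1 : T a u u = p * r := by linear_combination c1
    have d2 : T a w w = q * s := by linear_combination c2
    have d3 : 2 * T a u w = p * s + q * r := by linear_combination c3 - c1 - c2
    have d4 : T a u w = c * p * q := by
      linear_combination (1 / 2 : k) * d3 - (p / 2) * h1 + (q / 2) * h2
    rw [d1, d2, d4, ← h1, show r = c * p by linear_combination h2]
    ring
  have hK : T v₀ v₀ z ≠ 0 := by
    intro hK
    have hinj' := inj_emb (c := z) ha0 (fun hm => by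
      have := finrank_span_singleton (K := k) ha0
      have hle : Submodule.span k ({a, v₀} : Set V) ≤ Submodule.span k {a} :=
        Submodule.span_le.2 (Set.insert_subset_iff.2 ⟨Submodule.mem_span_singleton_self a, Set.singleton_subset_iff.2 hm⟩)
      have h2 := Submodule.finrank_mono hle
      rw [hl₀.1, this] at h2
      omega) hzL
    have hr := range_emb hinj' hP haP (hl₀P hv₀) hz
    refine ha ⟨haF, hga, ?_⟩
    show Prod3 T P
    rw [← hr]
    refine prod3_of_coord hinj' (f := LinearMap.proj 2)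
      (g := LinearMap.proj 2) (h := (3 * T a z z) • LinearMap.proj 0 + (3 * T v₀ z z) • LinearMap.proj 1 + T z z z • LinearMap.proj 2)
      fun x => ?_
    rw [cube_emb, hz' _ _ _ ha₀ ha₀ ha₀, hz' _ _ _ hv₀ hv₀ hv₀, hz' _ _ _ ha₀ ha₀ hv₀, hz' _ _ _ ha₀ hv₀ hv₀,
      show T a a z = 0 from hz, hav, hK]
    simp only [LinearMap.smul_apply, LinearMap.add_apply, LinearMap.proj_apply, smul_eq_mul]
    ring
  -- evaluate along a line of directions
  set K := 3 * T v₀ v₀ z
  set M := 3 * T v₀ z z
  set N := T.cube z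
  set c := T a z z
  let S : Polynomial k := Polynomial.C K + Polynomial.C M * Polynomial.X + Polynomial.C N * Polynomial.X ^ 2
  let G : Polynomial k := S ^ 2 * Polynomial.C (T a a h) + Polynomial.C (-6 * c) * Polynomial.X * S *
      (Polynomial.C (T a v₀ h) + Polynomial.C (T a z h) * Polynomial.X) +
    Polynomial.C (9 * c ^ 2) * Polynomial.X ^ 2 *
      (Polynomial.C (T v₀ v₀ h) + Polynomial.C (2 * T v₀ z h) * Polynomial.X + Polynomial.C (T z z h) * Polynomial.X ^ 2)
  have hG0 : G.eval 0 ≠ 0 := by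
    simp [G, S, K, hK, hgh]
  obtain ⟨t, ht⟩ := (Set.Infinite.diff (Set.infinite_univ (α := k))
    ((Polynomial.finite_setOf_isRoot (fun h0 : G = 0 => hG0 (by rw [h0, Polynomial.eval_zero]))).union
      (Set.finite_singleton (0 : k)))).nonempty
  simp only [Set.mem_diff, Set.mem_univ, true_and, Set.mem_union, Set.mem_singleton_iff, not_or,
    Set.mem_setOf_eq, Polynomial.IsRoot] at ht
  have hv : v₀ + t • z ∈ P := P.add_mem (hl₀P hv₀) (P.smul_mem _ hz)
  refine ⟨v₀ + t • z, hv, h, hψh, ?_⟩
  have hC : T.cube (v₀ + t • z) = t * S.eval t := by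
    rw [T.cube_add_smul, hl₀.2 v₀ hv₀]
    simp [S, K, M, N]
    ring
  have hQ' : T a (v₀ + t • z) (v₀ + t • z) = c * t ^ 2 := by
    simp [T.symm₂ a z v₀, hz' _ _ _ ha₀ hv₀ hv₀, hav, c]
    ring
  have key : T (resid T a (v₀ + t • z)) (resid T a (v₀ + t • z)) h = t ^ 2 * G.eval t := by
    rw [resid, T.grad_comb, hC, hQ', Tri.add₂, Tri.smul₂, T.grad_add_smul]
    simp [G]
    ring
  rw [key]
  exact mul_ne_zero (pow_ne_zero _ ht.2) ht.1

end Plane

end GrothLib.CubicTP12
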