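import Groth.Agent.Lib.CubicTP12.Bridge
import Groth.Agent.Lib.CubicTP12.Param

/-!
# Five rational points in general position
-/

set_option autoImplicit false
set_option linter.all false
set_option maxHeartbeats 1000000

universe u v

open Module MvPolynomial GrothLib.CubicForm

noncomputable section

namespace GrothLib.CubicTP12

variable {k : Type u} {K : Type v} [Field k] [Field K] [Algebra k K]

/-- Scalar extension of vectors. -/
def up (v : Fin 4 → k) : Fin 4 → K := fun i => algebraMap k K (v i)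

theorem up_add (v w : Fin 4 → k) : (up (v + w) : Fin 4 → K) = up v + up w := by funext i; simp [up]

theorem up_smul (r : k) (v : Fin 4 → k) : (up (r • v) : Fin 4 → K) = algebraMap k K r • up v := by
  funext i; simp [up]

theorem up_injective : Function.Injective (up : (Fin 4 → k) → (Fin 4 → K)) := fun v w h =>
  funext fun i => (algebraMap k K).injective (congrFun h i)

theorem up_zero : (up (0 : Fin 4 → k) : Fin 4 → K) = 0 := by funext i; simp [up]

theorem eval_up (F : MvPolynomial (Fin 4) k) (v : Fin 4 → k) :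
    eval (up v : Fin 4 → K) (MvPolynomial.map (algebraMap k K) F) = algebraMap k K (eval v F) := by
  induction F using MvPolynomial.induction_on with
  | C a => simp
  | add p q hp hq => simp [hp, hq]
  | mul_X p l hp => simp [hp, up]

theorem tri_up (F : MvPolynomial (Fin 4) k) (a b c : Fin 4 → k) :
    ofPoly (MvPolynomial.map (algebraMap k K) F) (up a) (up b) (up c) = algebraMap k K (ofPoly F a b c) := by
  have h : ∀ G : MvPolynomial (Fin 4) k, eval (0 : Fin 4 → K) (MvPolynomial.map (algebraMap k K) G) =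
      algebraMap k K (eval 0 G) := fun G => by
    rw [← up_zero (k := k), eval_up]
  simp only [ofPoly, map_sum, map_mul, MvPolynomial.pderiv_map, h, up]

theorem resid_up (F : MvPolynomial (Fin 4) k) (a v : Fin 4 → k) :
    resid (ofPoly (MvPolynomial.map (algebraMap k K) F)) (up a) (up v) = (up (resid (ofPoly F) a v) : Fin 4 → K) := by
  simp only [resid, Tri.cube, tri_up, up_add, up_smul, map_neg, map_mul, map_ofNat]

theorem up_single (i : Fin 4) : (up (Pi.single i (1 : k)) : Fin 4 → K) = Pi.single i 1 := by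
  funext j
  simp [up, Pi.single_apply, apply_ite (algebraMap k K)]

/-- A linear functional with scalars extended. -/
def upFun (φ : (Fin 4 → k) →ₗ[k] k) : (Fin 4 → K) →ₗ[K] K :=
  ∑ i, algebraMap k K (φ (Pi.single i 1)) • LinearMap.proj i

theorem upFun_up (φ : (Fin 4 → k) →ₗ[k] k) (v : Fin 4 → k) : upFun φ (up v : Fin 4 → K) = algebraMap k K (φ v) := by
  conv_rhs => rw [pi_eq_sum_univ' v]
  simp [upFun, up, LinearMap.sum_apply, map_sum, mul_comm]
  exact Finset.sum_congr rfl fun i _ => by rw [Algebra.smul_def, mul_comm]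

theorem upFun_ne_zero {φ : (Fin 4 → k) →ₗ[k] k} (hφ : φ ≠ 0) : (upFun φ : (Fin 4 → K) →ₗ[K] K) ≠ 0 := fun h =>
  hφ (LinearMap.ext fun v => (algebraMap k K).injective (by
    rw [← upFun_up, h, LinearMap.zero_apply, LinearMap.zero_apply, map_zero]))

/-- Polynomial functions. -/
def IsPoly {σ : Type} (f : (σ → K) → K) : Prop := ∃ p : MvPolynomial σ K, ∀ x, eval x p = f x

variable {σ : Type}

theorem IsPoly.const (c : K) : IsPoly (fun _ : σ → K => c) := ⟨C c, fun x => eval_C c⟩

theorem IsPoly.add {f g : (σ → K) → K} (hf : IsPoly f) (hg : IsPoly g) : IsPoly fun x => f x + g x := by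
  obtain ⟨p, hp⟩ := hf
  obtain ⟨q, hq⟩ := hg
  exact ⟨p + q, fun x => by rw [map_add, hp, hq]⟩

theorem IsPoly.mul {f g : (σ → K) → K} (hf : IsPoly f) (hg : IsPoly g) : IsPoly fun x => f x * g x := by
  obtain ⟨p, hp⟩ := hf
  obtain ⟨q, hq⟩ := hg
  exact ⟨p * q, fun x => by rw [map_mul, hp, hq]⟩

theorem IsPoly.sum {ι : Type*} {s : Finset ι} {f : ι → (σ → K) → K} (hf : ∀ i ∈ s, IsPoly (f i)) :
    IsPoly fun x => ∑ i ∈ s, f i x := by
  classical
  induction s using Finset.induction_on with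
  | empty => exact ⟨0, fun x => by simp⟩
  | insert a s ha ih =>
    simp only [Finset.sum_insert ha]
    exact (hf a (Finset.mem_insert_self a s)).add (ih fun i hi => hf i (Finset.mem_insert_of_mem hi))

/-- Vector valued polynomial functions. -/
def IsPolyVec (f : (σ → K) → (Fin 4 → K)) : Prop := ∀ i, IsPoly fun x => f x i

theorem isPolyVec_linear [Fintype σ] [DecidableEq σ] (L : (σ → K) →ₗ[K] (Fin 4 → K)) : IsPolyVec (fun x => L x) := fun i =>
  ⟨∑ j, C (L (Pi.single j 1) i) * X j, fun x => by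
    show _ = L x i
    conv_rhs => rw [pi_eq_sum_univ' x, map_sum, Finset.sum_apply]
    simp [mul_comm]⟩

theorem isPolyVec_const (c : Fin 4 → K) : IsPolyVec (fun _ : σ → K => c) := fun i => IsPoly.const (c i)

theorem IsPolyVec.add {f g : (σ → K) → (Fin 4 → K)} (hf : IsPolyVec f) (hg : IsPolyVec g) :
    IsPolyVec fun x => f x + g x := fun i => (hf i).add (hg i)

theorem IsPolyVec.smul {c : (σ → K) → K} {f : (σ → K) → (Fin 4 → K)} (hc : IsPoly c) (hf : IsPolyVec f) :
    IsPolyVec fun x => c x • f x := fun i => hc.mul (hf i)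

theorem IsPolyVec.linear {f : (σ → K) → (Fin 4 → K)} (hf : IsPolyVec f) (φ : (Fin 4 → K) →ₗ[K] K) :
    IsPoly fun x => φ (f x) := by
  have h : (fun x => φ (f x)) = fun x => ∑ i, f x i * φ (Pi.single i 1) := funext fun x => by
    conv_lhs => rw [pi_eq_sum_univ' (f x), map_sum]
    simp
  rw [h]
  exact IsPoly.sum fun i _ => (hf i).mul (IsPoly.const _)

theorem IsPolyVec.tri {G : MvPolynomial (Fin 4) K} {f g h : (σ → K) → (Fin 4 → K)} (hf : IsPolyVec f)
    (hg : IsPolyVec g) (hh : IsPolyVec h) : IsPoly fun x => ofPoly G (f x) (g x) (h x) := by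
  show IsPoly fun x => ∑ i : Fin 4, ∑ j : Fin 4, ∑ l : Fin 4,
    f x i * g x j * h x l * eval 0 (pderiv i (pderiv j (pderiv l G)))
  exact IsPoly.sum fun i _ => IsPoly.sum fun j _ => IsPoly.sum fun l _ =>
    (((hf i).mul (hg j)).mul (hh l)).mul (IsPoly.const _)

theorem isPolyVec_resid {G : MvPolynomial (Fin 4) K} (a : Fin 4 → K) {f : (σ → K) → (Fin 4 → K)} (hf : IsPolyVec f) :
    IsPolyVec fun x => resid (ofPoly G) a (f x) :=
  IsPolyVec.add (IsPolyVec.smul (IsPolyVec.tri hf hf hf) (isPolyVec_const a))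
    (IsPolyVec.smul (by
      have h := IsPoly.mul (IsPoly.const (σ := σ) (-3 : K)) (IsPolyVec.tri (G := G) (isPolyVec_const a) hf hf)
      simpa [neg_mul] using h) hf)

variable [CharZero k]

/-- Finitely many polynomial conditions hold at a rational point. -/
theorem exists_rat [Fintype σ] {ι : Type*} (s : Finset ι) (f : ι → (σ → K) → K) (hf : ∀ i ∈ s, IsPoly (f i))
    (hne : ∀ i ∈ s, ∃ x, f i x ≠ 0) : ∃ x : σ → k, ∀ i ∈ s, f i (fun j => algebraMap k K (x j)) ≠ 0 := by
  classical
  choose p hp using hf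
  by_contra! hall
  let q : MvPolynomial σ K := ∏ i ∈ s.attach, p i.1 i.2
  have hq : q = 0 := by
    refine MvPolynomial.funext_set (fun _ => Set.range (algebraMap k K))
      (fun _ => Set.infinite_range_of_injective (algebraMap k K).injective) fun x hx => ?_
    simp only [Set.mem_pi, Set.mem_univ, true_implies, Set.mem_range] at hx
    choose y hy using hx
    obtain ⟨i, hi, h0⟩ := hall y
    rw [map_zero, show q = ∏ i ∈ s.attach, p i.1 i.2 from rfl, map_prod]
    refine Finset.prod_eq_zero (Finset.mem_attach s ⟨i, hi⟩) ?_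
    rw [hp, show x = fun j => algebraMap k K (y j) from funext fun j => (hy j).symm]
    exact h0
  obtain ⟨i, -, hi⟩ := Finset.prod_eq_zero_iff.1 hq
  obtain ⟨x, hx⟩ := hne i.1 i.2
  exact hx (by rw [← hp i.1 i.2, hi, map_zero])

variable [CharZero K] [IsAlgClosed K] {F : MvPolynomial (Fin 4) k} (hF : F.IsHomogeneous 3)

include hF

/-- Being a cone is insensitive to the field. -/
theorem notCone_up (hcone : ¬ ∃ v : Fin 4 → k, v ≠ 0 ∧ ∑ i : Fin 4, v i • MvPolynomial.pderiv i F = 0) :
    ¬ ∃ v : Fin 4 → K, v ≠ 0 ∧ ∑ i : Fin 4, v i • MvPolynomial.pderiv i (MvPolynomial.map (algebraMap k K) F) = 0 := by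
  rintro ⟨v, hv0, hv⟩
  obtain ⟨j, hj⟩ := Function.ne_iff.1 hv0
  obtain ⟨μ, hμ⟩ : ∃ μ : Module.Dual k K, μ (v j) ≠ 0 := by
    by_contra! h
    exact hj ((Module.forall_dual_apply_eq_zero_iff k (v j)).1 h)
  refine hcone ⟨fun i => μ (v i), fun h => hμ (congrFun h j), MvPolynomial.ext _ _ fun m => ?_⟩
  have h := congrArg (fun P => μ (MvPolynomial.coeff m P)) hv
  simp only [MvPolynomial.coeff_sum, MvPolynomial.coeff_smul, MvPolynomial.pderiv_map, MvPolynomial.coeff_map,
    smul_eq_mul, map_sum, MvPolynomial.coeff_zero, map_zero] at h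
  simp only [MvPolynomial.coeff_sum, MvPolynomial.coeff_smul, smul_eq_mul, MvPolynomial.coeff_zero]
  refine Eq.trans (Finset.sum_congr rfl fun i _ => ?_) h
  rw [mul_comm (v i), ← Algebra.smul_def, map_smul, smul_eq_mul, mul_comm]

/-- Rational points off finitely many planes. -/
theorem exists_off (hirr : Irreducible (MvPolynomial.map (algebraMap k K) F))
    (hcone : ¬ ∃ v : Fin 4 → k, v ≠ 0 ∧ ∑ i : Fin 4, v i • MvPolynomial.pderiv i F = 0)
    (a : Fin 4 → k) (ha : a ≠ 0) (hFa : eval a F = 0)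
    (hna : ¬ TP (ofPoly (MvPolynomial.map (algebraMap k K) F)) (up a))
    (s : Finset ((Fin 4 → k) →ₗ[k] k)) (hs : ∀ φ ∈ s, φ ≠ 0) :
    ∃ p : Fin 4 → k, eval p F = 0 ∧ ∀ φ ∈ s, φ p ≠ 0 := by
  classical
  have hF' : (MvPolynomial.map (algebraMap k K) F).IsHomogeneous 3 := hF.map _
  set T := ofPoly (MvPolynomial.map (algebraMap k K) F) with hTdef
  set T₀ := ofPoly F with hT₀def
  have hV : finrank K (Fin 4 → K) = 4 := Module.finrank_fin_fun K
  have hNP := noPlane_of_irreducible hF' hirr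
  have hcone' := notCone_up (K := K) hF hcone
  have hNC := notCone_of_pderiv hF' hcone'
  set A : Fin 4 → K := up a
  have hA0 : A ≠ 0 := fun h => ha (up_injective (h.trans up_zero.symm))
  have hAF : T.cube A = 0 := by
    rw [hTdef, Tri.cube, tri_up, show ofPoly F a a a = (ofPoly F).cube a from rfl,
      (ofPoly_cube_eq_zero_iff hF a).2 hFa, map_zero]
  by_cases hsing : ∀ x, T₀ a a x = 0
  · -- projection from a singular point
    have hsing' : ∀ x, T A A x = 0 := fun x => by
      conv_lhs => rw [pi_eq_sum_univ' x]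
      show T.lin A A _ = 0
      rw [map_sum]
      refine Finset.sum_eq_zero fun i _ => ?_
      rw [map_smul, Tri.lin_apply,
        ← up_single (k := k) i, hTdef, tri_up, hsing, map_zero, smul_zero]
    obtain ⟨x, hx⟩ := exists_rat (k := k) s (fun φ (x : Fin 4 → K) => upFun φ (resid T A x))
      (fun φ _ => (isPolyVec_resid A (isPolyVec_linear LinearMap.id)).linear (upFun φ))
      (fun φ hφ => avoid_space hsing' hV hNP hNC hA0 (upFun_ne_zero (hs φ hφ)))
    refine ⟨resid T₀ a x, (ofPoly_cube_eq_zero_iff hF _).1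
      (cube_resid ((ofPoly_cube_eq_zero_iff hF a).2 hFa) (hsing x)), fun φ hφ h0 => hx φ hφ ?_⟩
    show upFun φ (resid T A (up x)) = 0
    rw [hTdef, resid_up, upFun_up, h0, map_zero]
  push Not at hsing
  have hga : ∃ x, T A A x ≠ 0 := by
    obtain ⟨x, hx⟩ := hsing
    exact ⟨up x, by rw [hTdef, tri_up]; simpa using hx⟩
  have hfin := finite_TP_in_tangentPlane hV hNP hNC (through_finite hF' hirr hcone') hAF hga hna
  -- parametrised points in a rational tangent plane
  have frame : ∀ b : Fin 4 → k, (∃ x, T (up b) (up b) x ≠ 0) →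
      ∃ L : (Fin 4 → k) →ₗ[k] (Fin 4 → k), ∃ LK : (Fin 4 → K) →ₗ[K] (Fin 4 → K),
        (∀ x, T₀ b b (L x) = 0) ∧ (∀ x, LK (up x) = up (L x)) ∧
        (∀ v ∈ LinearMap.ker (T.lin (up b) (up b)), ∃ x, LK x = v) ∧
        ∀ x, LK x ∈ LinearMap.ker (T.lin (up b) (up b)) := by
    intro b hgb
    obtain ⟨j, hj⟩ : ∃ j, T₀ b b (Pi.single j 1) ≠ 0 := by
      by_contra! hall
      obtain ⟨x, hx⟩ := hgb
      refine hx ?_
      conv_lhs => rw [pi_eq_sum_univ' x]
      show T.lin _ _ _ = 0
      rw [map_sum]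
      refine Finset.sum_eq_zero fun i _ => ?_
      rw [map_smul, Tri.lin_apply,
        ← up_single (k := k) i, hTdef, tri_up, hall, map_zero, smul_zero]
    set d : Fin 4 → k := (T₀ b b (Pi.single j 1))⁻¹ • Pi.single j 1 with hd
    have hd1 : T₀ b b d = 1 := by rw [hd, Tri.smul₃, inv_mul_cancel₀ hj]
    have hd1' : T (up b) (up b) (up d) = 1 := by rw [hTdef, tri_up, ← hT₀def, hd1, map_one]
    refine ⟨LinearMap.id - LinearMap.smulRight (T₀.lin b b) d,
      LinearMap.id - LinearMap.smulRight (T.lin (up b) (up b)) (up d), fun x => ?_, fun x => ?_, fun v hv => ⟨v, ?_⟩,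
      fun x => ?_⟩
    · simp [hd1]
    · simp only [LinearMap.sub_apply, LinearMap.id_apply, LinearMap.smulRight_apply, Tri.lin_apply]
      rw [hTdef, tri_up]
      funext i
      simp [up, hT₀def, Algebra.smul_def]
    · have hv' : T (up b) (up b) v = 0 := hv
      simp [hv']
    · simp [hd1']
  obtain ⟨L, LK, hL, hLK, hsurj, hLKP⟩ := frame a hga
  -- conditions on the auxiliary point
  have hχ : ∀ U ∈ hfin.toFinset, ∃ χ : (Fin 4 → K) →ₗ[K] K, (∀ u ∈ U, χ u = 0) ∧
      ∃ x ∈ LinearMap.ker (T.lin A A), χ x ≠ 0 := by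
    intro U hU
    obtain ⟨hU1, hle, -⟩ := hfin.mem_toFinset.1 hU
    obtain ⟨x, hx, hxU⟩ : ∃ x ∈ LinearMap.ker (T.lin A A), x ∉ U := by
      by_contra! h
      have := Submodule.finrank_mono (show LinearMap.ker (T.lin A A) ≤ U from h)
      rw [finrank_lin_ker hV hga, hU1] at this
      omega
    obtain ⟨χ, hχx, hχU⟩ := Submodule.exists_dual_map_eq_bot_of_notMem hxU inferInstance
    exact ⟨χ, fun u hu => (Submodule.eq_bot_iff _).1 hχU _ (Submodule.mem_map_of_mem hu), x, hx, hχx⟩
  choose! χ hχU hχP using hχ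
  -- the extra functional makes the auxiliary point smooth
  obtain ⟨φ₀, hφ₀⟩ : ∃ φ₀ : (Fin 4 → k) →ₗ[k] k, φ₀ ≠ 0 :=
    ⟨LinearMap.proj 0, fun h => one_ne_zero (α := k) (by simpa using LinearMap.congr_fun h (Pi.single 0 1))⟩
  have hwit : ∀ φ ∈ insert φ₀ s, ∃ h, upFun φ h = 0 ∧ ∃ x, T (resid T A (LK x)) (resid T A (LK x)) h ≠ 0 := by
    intro φ _
    obtain ⟨v, hv, h, hh, hne⟩ := avoid_tangent hV hAF hga hna (upFun φ)
    obtain ⟨x, rfl⟩ := hsurj v hv
    exact ⟨h, hh, x, hne⟩
  choose! wit hwit0 hwit1 using hwit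
  let conds : Finset (((Fin 4 → k) →ₗ[k] k) ⊕ Submodule K (Fin 4 → K)) :=
    (insert φ₀ s).disjSum hfin.toFinset
  let val : (((Fin 4 → k) →ₗ[k] k) ⊕ Submodule K (Fin 4 → K)) → (Fin 4 → K) → K := fun c x =>
    c.elim (fun φ => T (resid T A (LK x)) (resid T A (LK x)) (wit φ)) (fun U => χ U (resid T A (LK x)))
  have hres := isPolyVec_resid (G := MvPolynomial.map (algebraMap k K) F) A (isPolyVec_linear LK)
  obtain ⟨x, hx⟩ := exists_rat (k := k) conds val
    (by
      rintro (φ | U) hc
      · exact IsPolyVec.tri hres hres (isPolyVec_const _)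
      · exact hres.linear (χ U))
    (by
      rintro (φ | U) hc
      · exact hwit1 φ (Finset.inl_mem_disjSum.1 hc)
      · obtain ⟨v, hv, hv'⟩ := avoid_plane hV hAF hga hna (hχP U (Finset.inr_mem_disjSum.1 hc))
        obtain ⟨y, rfl⟩ := hsurj v hv
        exact ⟨y, hv'⟩)
  set b := resid T₀ a (L x)
  have hb : resid T A (LK (up x)) = (up b : Fin 4 → K) := by rw [hLK, hTdef, resid_up]
  have hbF : T₀.cube b = 0 := cube_resid ((ofPoly_cube_eq_zero_iff hF a).2 hFa) (hL x)
  have hBF : T.cube (up b) = 0 := by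
    rw [hTdef, Tri.cube, tri_up, show ofPoly F b b b = T₀.cube b from rfl, hbF, map_zero]
  have hgb : ∀ φ ∈ insert φ₀ s, T (up b) (up b) (wit φ) ≠ 0 := fun φ hφ => by
    have := hx (Sum.inl φ) (Finset.inl_mem_disjSum.2 hφ)
    rw [← hb]; exact this
  have hgb' : ∃ y, T (up b) (up b) y ≠ 0 := ⟨_, hgb φ₀ (Finset.mem_insert_self _ _)⟩
  have hbP : (up b : Fin 4 → K) ∈ LinearMap.ker (T.lin A A) := by
    rw [← hb]
    exact Submodule.add_mem _ (Submodule.smul_mem _ _ hAF) (Submodule.smul_mem _ _ (hLKP _))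
  have hnb : ¬ TP T (up b) := fun hTP => by
    have hb0 : (up b : Fin 4 → K) ≠ 0 := fun h => by
      obtain ⟨y, hy⟩ := hgb'
      exact hy (by rw [h, Tri.zero₁])
    have hU : Submodule.span K {(up b : Fin 4 → K)} ∈ hfin.toFinset := hfin.mem_toFinset.2
      ⟨finrank_span_singleton hb0, Submodule.span_le.2 (Set.singleton_subset_iff.2 hbP), fun c hc hc0 => by
        obtain ⟨r, rfl⟩ := Submodule.mem_span_singleton.1 hc
        obtain ⟨h1, h2, f, g, h, h3⟩ := hTP
        have hr : r ≠ 0 := fun hr => hc0 (by rw [hr, zero_smul])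
        refine ⟨by rw [T.cube_smul, h1, mul_zero], ?_, f, g, h, fun z hz => h3 z ?_⟩
        · obtain ⟨y, hy⟩ := h2
          exact ⟨y, by rw [Tri.smul₁, Tri.smul₂]; exact mul_ne_zero hr (mul_ne_zero hr hy)⟩
        · have hz' : T (r • up b) (r • up b) z = 0 := hz
          rw [Tri.smul₁, Tri.smul₂] at hz'
          exact ((mul_eq_zero.1 ((mul_eq_zero.1 hz').resolve_left hr)).resolve_left hr)⟩
    refine hx (Sum.inr _) (Finset.inr_mem_disjSum.2 hU) ?_
    show χ _ (resid T A (LK (up x))) = 0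
    rw [hb]
    exact hχU _ hU _ (Submodule.mem_span_singleton_self _)
  -- the curve through the auxiliary point
  obtain ⟨L', LK', hL', hLK', hsurj', -⟩ := frame b hgb'
  obtain ⟨y, hy⟩ := exists_rat (k := k) s (fun φ (y : Fin 4 → K) => upFun φ (resid T (up b) (LK' y)))
    (fun φ _ => (isPolyVec_resid _ (isPolyVec_linear LK')).linear (upFun φ))
    (fun φ hφ => by
      obtain ⟨v, hv, hv'⟩ := avoid_plane hV hBF hgb' hnb (φ := upFun φ) (by
        by_contra! hall
        have heq : LinearMap.ker (T.lin (up b) (up b)) = LinearMap.ker (upFun φ) :=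
          Submodule.eq_of_le_of_finrank_eq hall ((finrank_lin_ker hV hgb').trans (finrank_ker hV (by
            by_contra! h
            exact upFun_ne_zero (hs φ hφ) (LinearMap.ext h))).symm)
        exact hgb φ (Finset.mem_insert_of_mem hφ)
          (heq.ge (hwit0 φ (Finset.mem_insert_of_mem hφ))))
      obtain ⟨z, rfl⟩ := hsurj' v hv
      exact ⟨z, hv'⟩)
  refine ⟨resid T₀ b (L' y), (ofPoly_cube_eq_zero_iff hF _).1 (cube_resid hbF (hL' y)), fun φ hφ h0 => hy φ hφ ?_⟩
  show upFun φ (resid T (up b) (LK' (up y))) = 0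
  rw [hLK', hTdef, resid_up, upFun_up, h0, map_zero]

/-- Five rational points in general position through a point with non-split tangent section. -/
theorem exists_five (hirr : Irreducible (MvPolynomial.map (algebraMap k K) F))
    (hcone : ¬ ∃ v : Fin 4 → k, v ≠ 0 ∧ ∑ i : Fin 4, v i • MvPolynomial.pderiv i F = 0)
    (a : Fin 4 → k) (ha : a ≠ 0) (hFa : eval a F = 0)
    (hna : ¬ TP (ofPoly (MvPolynomial.map (algebraMap k K) F)) (up a)) :
    ∃ p : Fin 5 → (Fin 4 → k), p 0 = a ∧ (∀ j : Fin 5, eval (p j) F = 0) ∧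
      ∀ j : Fin 5, LinearIndependent k (fun i : Fin 4 => p (j.succAbove i)) := by
  classical
  have off := exists_off hF hirr hcone a ha hFa hna
  have step : ∀ {n : ℕ} (v : Fin n → Fin 4 → k), n < 4 → LinearIndependent k v →
      ∃ q, eval q F = 0 ∧ LinearIndependent k (Fin.snoc v q) := by
    intro n v hn hv
    obtain ⟨φ, hφ, hle⟩ := Submodule.exists_le_ker_of_lt_top (Submodule.span k (Set.range v))
      (lt_top_iff_ne_top.2 fun h => by
        have := finrank_span_eq_card hv
        rw [h, finrank_top, Module.finrank_fin_fun, Fintype.card_fin] at this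
        omega)
    obtain ⟨q, hq, hq'⟩ := off {φ} (by simpa using hφ)
    exact ⟨q, hq, linearIndependent_finSnoc.2 ⟨hv, fun hmem => hq' φ (Finset.mem_singleton_self φ) (hle hmem)⟩⟩
  have h1 : LinearIndependent k (fun _ : Fin 1 => a) := linearIndependent_unique_iff.2 ha
  obtain ⟨p₁, hp₁, h2⟩ := step _ (by norm_num) h1
  obtain ⟨p₂, hp₂, h3⟩ := step _ (by norm_num) h2
  obtain ⟨p₃, hp₃, h4⟩ := step _ (by norm_num) h3
  set v : Fin 4 → Fin 4 → k := Fin.snoc (Fin.snoc (Fin.snoc (fun _ : Fin 1 => a) p₁) p₂) p₃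
  let B : Basis (Fin 4) k (Fin 4 → k) := basisOfLinearIndependentOfCardEqFinrank h4 (by simp)
  have hB : ∀ i, B i = v i := fun i => by simp [B, v]
  obtain ⟨p₄, hp₄, hp₄'⟩ := off (Finset.univ.image B.coord) (by
    intro φ hφ
    obtain ⟨i, -, rfl⟩ := Finset.mem_image.1 hφ
    exact fun h => one_ne_zero (α := k) (by simpa using LinearMap.congr_fun h (B i)))
  refine ⟨Fin.snoc v p₄, ?_, fun j => ?_, fun j => ?_⟩
  · rfl
  · refine Fin.lastCases ?_ (fun i => ?_) j
    · rw [Fin.snoc_last]; exact hp₄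
    · rw [Fin.snoc_castSucc]
      fin_cases i
      · exact hFa
      · exact hp₁
      · exact hp₂
      · exact hp₃
  · have hall : ∀ c : Fin 5 → k, ∑ m, c m • Fin.snoc (α := fun _ => Fin 4 → k) v p₄ m = 0 → c j = 0 → c = 0 := by
      intro c hc hcj
      rw [Fin.sum_univ_castSucc] at hc
      simp only [Fin.snoc_castSucc, Fin.snoc_last] at hc
      have h5 : c (Fin.last 4) = 0 := by
        refine Fin.lastCases (fun h => h) (fun i hi => ?_) j hcj
        have := congrArg (B.coord i) hc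
        simp only [← hB, map_add, map_sum, map_smul, map_zero, Module.Basis.coord_apply, Module.Basis.repr_self,
          smul_eq_mul, Finsupp.single_apply] at this
        simp [hi] at this
        exact (this.resolve_right (hp₄' _ (Finset.mem_image_of_mem _ (Finset.mem_univ i))))
      rw [h5, zero_smul, add_zero] at hc
      exact funext fun m => Fin.lastCases h5 (fun i => Fintype.linearIndependent_iff.1 h4 _ hc i) m
    refine Fintype.linearIndependent_iff.2 fun g hg i => ?_
    have h := hall (j.insertNth 0 g) (by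
      rw [Fin.sum_univ_succAbove _ j]
      simpa using hg) (Fin.insertNth_apply_same _ _ _)
    simpa using congrFun h (j.succAbove i)

end GrothLib.CubicTP12
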